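import Mathlib
import Cfsg.Agent.Lib.Char.Orthogonality

/-!
# Extending an invariant irreducible representation of a normal subgroup

For `N ⊴ G` and an irreducible representation `θ` of `N` on `V`, the intertwiner group consists
of the pairs `(g, a)` with `a θ(n) a⁻¹ = θ(g n g⁻¹)`.  It is a central extension of the inertia
group by the scalars, and `θ` extends to `G` exactly when it has a retraction onto the scalars
killing the canonical copy of `N`.  Retractions are glued by transfer: this gives the extension
criterion by Sylow subgroups without cohomology.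
-/

set_option autoImplicit false
set_option linter.style.haveILetI false

namespace Cfsg.Agent.Clifford

open Representation Module

universe u v w

section Intertwiner

variable {G : Type u} [Group G]

/-- An irreducible representation is equivalent to any representation with the same character. -/
theorem exists_linearEquiv_of_character_eq [Finite G] {V : Type v} [AddCommGroup V] [Module ℂ V]
    [FiniteDimensional ℂ V] {W : Type w} [AddCommGroup W] [Module ℂ W] [FiniteDimensional ℂ W]
    (ρ : Representation ℂ G V) [ρ.IsIrreducible] (σ : Representation ℂ G W)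
    (h : σ.character = ρ.character) :
    ∃ L : V ≃ₗ[ℂ] W, ∀ g v, L (ρ g v) = σ g (L v) := by
  haveI := Fintype.ofFinite G
  have h1 : classInner ρ.character ρ.character = 1 :=
    Char.classInner_irr_self (Char.isIrrCharacter_character ρ inferInstance)
  have hdim : Module.finrank ℂ (IntertwiningMap ρ σ) = 1 := by
    have h2 := Char.classInner_character ρ σ
    rw [h, h1] at h2
    exact_mod_cast h2.symm
  haveI : Nontrivial (IntertwiningMap ρ σ) := Module.nontrivial_of_finrank_eq_succ hdim
  obtain ⟨f, hf⟩ := exists_ne (0 : IntertwiningMap ρ σ)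
  have hfg : ∀ g v, f.toLinearMap (ρ g v) = σ g (f.toLinearMap v) := fun g v => IntertwiningMap.isIntertwining ρ σ f g v
  let K : Subrepresentation ρ := ⟨LinearMap.ker f.toLinearMap, fun g v hv => by
    rw [LinearMap.mem_ker] at hv ⊢
    rw [hfg, hv, map_zero]⟩
  have hinj : Function.Injective f.toLinearMap := by
    rw [← LinearMap.ker_eq_bot]
    rcases eq_bot_or_eq_top K with hK | hK
    · exact congrArg Subrepresentation.toSubmodule hK
    · exact absurd (IntertwiningMap.toLinearMap_injective ρ σ
        (LinearMap.ker_eq_top.1 (congrArg Subrepresentation.toSubmodule hK))) hf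
  have hVW : finrank ℂ V = finrank ℂ W := by
    have := congrFun h 1
    simp only [Representation.char_one] at this
    exact_mod_cast this.symm
  refine ⟨LinearEquiv.ofBijective f.toLinearMap
    ⟨hinj, (LinearMap.injective_iff_surjective_of_finrank_eq_finrank hVW).1 hinj⟩, fun g v => ?_⟩
  exact hfg g v

/-- Schur's lemma for units of the endomorphism ring. -/
theorem exists_scalar_of_commute {V : Type v} [AddCommGroup V] [Module ℂ V]
    [FiniteDimensional ℂ V] (ρ : Representation ℂ G V) [ρ.IsIrreducible] (a : Module.End ℂ V)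
    (h : ∀ g, a * ρ g = ρ g * a) : ∃ c : ℂ, a = algebraMap ℂ (Module.End ℂ V) c := by
  let f : IntertwiningMap ρ ρ := LinearMap.intertwiningMap_of_isIntertwiningMap ρ ρ a
    (fun g v => LinearMap.congr_fun (h g) v)
  obtain ⟨c, hc⟩ :=
    (IsIrreducible.algebraMap_intertwiningMap_bijective_of_isAlgClosed (ρ := ρ)).2 f
  refine ⟨c, LinearMap.ext fun x => ?_⟩
  have : (algebraMap ℂ (IntertwiningMap ρ ρ) c) x = f x := by rw [hc]
  rw [show f x = a x from rfl] at this
  rw [← this, Algebra.algebraMap_eq_smul_one, Algebra.algebraMap_eq_smul_one]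
  rfl

end Intertwiner

variable {G : Type u} [Group G] {N : Subgroup G} [hN : N.Normal]
variable {V : Type v} [AddCommGroup V] [Module ℂ V] [FiniteDimensional ℂ V]

/-- The scalar automorphisms. -/
noncomputable def scalarUnit (V : Type v) [AddCommGroup V] [Module ℂ V] :
    ℂˣ →* (Module.End ℂ V)ˣ :=
  Units.map (algebraMap ℂ (Module.End ℂ V) : ℂ →* Module.End ℂ V)

omit [FiniteDimensional ℂ V] in
theorem coe_scalarUnit (c : ℂˣ) :
    ((scalarUnit V c : (Module.End ℂ V)ˣ) : Module.End ℂ V) = algebraMap ℂ _ (c : ℂ) := rfl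

omit [FiniteDimensional ℂ V] in
theorem scalarUnit_comm (c : ℂˣ) (a : (Module.End ℂ V)ˣ) :
    scalarUnit V c * a = a * scalarUnit V c :=
  Units.ext (Algebra.commutes _ _)

omit [FiniteDimensional ℂ V] in
theorem scalarUnit_injective [Nontrivial V] : Function.Injective (scalarUnit V) := by
  intro a b h
  exact Units.ext (FaithfulSMul.algebraMap_injective ℂ (Module.End ℂ V) (congrArg Units.val h))

variable (θ : Representation ℂ N V)

/-- A representation as a map to the units of the endomorphism ring. -/
noncomputable def unitsHom : N →* (Module.End ℂ V)ˣ := MonoidHom.toHomUnits θ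

omit [FiniteDimensional ℂ V] hN in
theorem coe_unitsHom (n : N) : ((unitsHom θ n : (Module.End ℂ V)ˣ) : Module.End ℂ V) = θ n := rfl

/-- The pairs `(g, a)` with `a` intertwining `θ` and its conjugate by `g`. -/
def intertwinerGroup : Subgroup (G × (Module.End ℂ V)ˣ) where
  carrier := {x | ∀ n : N, x.2 * unitsHom θ n = unitsHom θ (MulAut.conjNormal x.1 n) * x.2}
  one_mem' := fun n => by simp
  mul_mem' := fun {x y} hx hy n => by
    rw [Prod.snd_mul, mul_assoc, hy n, ← mul_assoc, hx, mul_assoc, Prod.fst_mul, map_mul,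
      MulAut.mul_apply]
  inv_mem' := fun {x} hx n => by
    have := hx (MulAut.conjNormal x.1⁻¹ n)
    rw [← MulAut.mul_apply, ← map_mul, mul_inv_cancel, map_one, MulAut.one_apply] at this
    rw [Prod.snd_inv, Prod.fst_inv, eq_mul_inv_iff_mul_eq, mul_assoc, ← this,
      inv_mul_cancel_left]

/-- The projection of the intertwiner group to `G`. -/
def proj : intertwinerGroup θ →* G :=
  (MonoidHom.fst G (Module.End ℂ V)ˣ).comp (intertwinerGroup θ).subtype

theorem proj_apply (x : intertwinerGroup θ) : proj θ x = x.1.1 := rfl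

theorem ofN_mem (n : N) : ((n : G), unitsHom θ n) ∈ intertwinerGroup θ := fun m => by
  show unitsHom θ n * unitsHom θ m = unitsHom θ (MulAut.conjNormal (n : G) m) * unitsHom θ n
  rw [← map_mul, ← map_mul]
  congr 1
  apply Subtype.ext
  simp

/-- The canonical copy of `N` in the intertwiner group. -/
noncomputable def ofN : N →* intertwinerGroup θ where
  toFun n := ⟨((n : G), unitsHom θ n), ofN_mem θ n⟩
  map_one' := Subtype.ext (Prod.ext (by simp) (by simp))
  map_mul' _ _ := Subtype.ext (Prod.ext (by simp) (by simp))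

theorem scalar_mem (c : ℂˣ) : ((1 : G), scalarUnit V c) ∈ intertwinerGroup θ := fun n => by
  show scalarUnit V c * unitsHom θ n = unitsHom θ (MulAut.conjNormal (1 : G) n) * scalarUnit V c
  rw [map_one, MulAut.one_apply, scalarUnit_comm]

/-- The scalars in the intertwiner group. -/
noncomputable def scalarHom : ℂˣ →* intertwinerGroup θ where
  toFun c := ⟨((1 : G), scalarUnit V c), scalar_mem θ c⟩
  map_one' := Subtype.ext (Prod.ext rfl (by simp))
  map_mul' _ _ := Subtype.ext (Prod.ext (by simp) (by simp))

theorem scalarHom_comm (c : ℂˣ) (x : intertwinerGroup θ) :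
    scalarHom θ c * x = x * scalarHom θ c :=
  Subtype.ext (Prod.ext (by simp [scalarHom]) (scalarUnit_comm c x.1.2))

theorem conj_ofN (x : intertwinerGroup θ) (n : N) :
    x * ofN θ n * x⁻¹ = ofN θ (MulAut.conjNormal (proj θ x) n) := by
  apply Subtype.ext
  refine Prod.ext ?_ ?_
  · simp [ofN, proj_apply]
  · show x.1.2 * unitsHom θ n * x.1.2⁻¹ = unitsHom θ (MulAut.conjNormal x.1.1 n)
    rw [x.2 n, mul_inv_cancel_right]

/-- Two elements over the same group element differ by a scalar. -/
theorem exists_scalar_of_proj_eq [θ.IsIrreducible] {x y : intertwinerGroup θ}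
    (h : proj θ x = proj θ y) : ∃ c : ℂˣ, y = x * scalarHom θ c := by
  set z := x⁻¹ * y with hz
  have hz1 : z.1.1 = 1 := by
    rw [← proj_apply, hz, map_mul, map_inv, h, inv_mul_cancel]
  have hcomm : ∀ n : N, (z.1.2 : Module.End ℂ V) * θ n = θ n * z.1.2 := by
    intro n
    have := z.2 n
    rw [hz1, map_one, MulAut.one_apply] at this
    exact congrArg Units.val this
  obtain ⟨c, hc⟩ := exists_scalar_of_commute θ _ hcomm
  haveI : Nontrivial V := Char.nontrivial_of_isIrreducible θ
  have hc0 : c ≠ 0 := by
    rintro rfl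
    rw [map_zero] at hc
    exact z.1.2.ne_zero hc
  refine ⟨Units.mk0 c hc0, ?_⟩
  have : z = scalarHom θ (Units.mk0 c hc0) :=
    Subtype.ext (Prod.ext hz1 (Units.ext hc))
  rw [← this, hz, mul_inv_cancel_left]

/-- For an invariant character the projection is onto. -/
theorem proj_surjective [Finite G] [θ.IsIrreducible]
    (hinv : ∀ (g : G) (n : N), θ.character (MulAut.conjNormal g n) = θ.character n) :
    Function.Surjective (proj θ) := by
  intro g
  obtain ⟨L, hL⟩ := exists_linearEquiv_of_character_eq θ
    (θ.comp (MulAut.conjNormal g : MulAut N).toMonoidHom) (funext fun n => hinv g n)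
  let a : (Module.End ℂ V)ˣ := ⟨L.toLinearMap, L.symm.toLinearMap,
    LinearMap.ext fun v => L.apply_symm_apply v, LinearMap.ext fun v => L.symm_apply_apply v⟩
  refine ⟨⟨(g, a), fun n => Units.ext (LinearMap.ext fun v => ?_)⟩, rfl⟩
  exact hL n v

/-- A retraction onto the scalars trivial on `N`. -/
def IsRetraction (R : intertwinerGroup θ →* ℂˣ) : Prop :=
  (∀ c, R (scalarHom θ c) = c) ∧ ∀ n, R (ofN θ n) = 1

/-- A retraction yields an extension of `θ`. -/
theorem exists_extension_of_retraction [θ.IsIrreducible]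
    (hsurj : Function.Surjective (proj θ)) (R : intertwinerGroup θ →* ℂˣ)
    (hR : IsRetraction θ R) :
    ∃ ρ : Representation ℂ G V, ∀ n : N, ρ n = θ n := by
  let val : intertwinerGroup θ →* (Module.End ℂ V)ˣ :=
    { toFun := fun x => scalarUnit V (R x)⁻¹ * x.1.2
      map_one' := by simp
      map_mul' := fun x y => by
        simp only [map_mul, mul_inv, Subgroup.coe_mul, Prod.snd_mul]
        simp only [mul_assoc]
        rw [← mul_assoc x.1.2, ← scalarUnit_comm, mul_assoc] }
  have hwd : ∀ x y, proj θ x = proj θ y → val x = val y := by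
    intro x y h
    obtain ⟨c, rfl⟩ := exists_scalar_of_proj_eq θ h
    rw [map_mul val]
    have : val (scalarHom θ c) = 1 := by
      show scalarUnit V (R (scalarHom θ c))⁻¹ * scalarUnit V c = 1
      rw [hR.1, ← map_mul, inv_mul_cancel, map_one]
    rw [this, mul_one]
  choose s hs using hsurj
  let ρ : G →* (Module.End ℂ V)ˣ :=
    { toFun := fun g => val (s g)
      map_one' := (hwd _ 1 (by rw [hs, map_one])).trans (map_one val)
      map_mul' := fun g h => (hwd _ (s g * s h) (by rw [hs, map_mul, hs, hs])).trans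
        (map_mul val _ _) }
  refine ⟨(Units.coeHom _).comp ρ, fun n => ?_⟩
  show ((val (s (n : G)) : (Module.End ℂ V)ˣ) : Module.End ℂ V) = θ n
  rw [hwd (s n) (ofN θ n) (hs _)]
  show ((scalarUnit V (R (ofN θ n))⁻¹ * unitsHom θ n : (Module.End ℂ V)ˣ) : Module.End ℂ V) = θ n
  rw [hR.2, inv_one, map_one, one_mul, coe_unitsHom]

variable {P : Subgroup G}

/-- An extension to `P` gives a homomorphism on the preimage of `P` retracting onto scalars. -/
theorem exists_retraction_on [θ.IsIrreducible] (hNP : N ≤ P) (η : Representation ℂ P V)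
    (hη : ∀ n : N, η ⟨(n : G), hNP n.2⟩ = θ n) :
    ∃ r : ↥(Subgroup.comap (proj θ) P) →* ℂˣ,
      (∀ (x : ↥(Subgroup.comap (proj θ) P)) c,
        (x : intertwinerGroup θ) = scalarHom θ c → r x = c) ∧
      ∀ (x : ↥(Subgroup.comap (proj θ) P)) n,
        (x : intertwinerGroup θ) = ofN θ n → r x = 1 := by
  haveI : Nontrivial V := Char.nontrivial_of_isIrreducible θ
  set η' := MonoidHom.toHomUnits η with hη'
  have hηN : ∀ n : N, η' ⟨(n : G), hNP n.2⟩ = unitsHom θ n := fun n => Units.ext (hη n)
  have hmem : ∀ q : P, ((q : G), η' q) ∈ intertwinerGroup θ := by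
    intro q n
    show η' q * unitsHom θ n = unitsHom θ (MulAut.conjNormal (q : G) n) * η' q
    rw [← hηN, ← hηN, ← map_mul, ← map_mul]
    congr 1
    apply Subtype.ext
    simp
  let lift : P →* intertwinerGroup θ :=
    { toFun := fun q => ⟨((q : G), η' q), hmem q⟩
      map_one' := Subtype.ext (Prod.ext (by simp) (by simp))
      map_mul' := fun _ _ => Subtype.ext (Prod.ext (by simp) (by simp)) }
  have hex : ∀ x : ↥(Subgroup.comap (proj θ) P), ∃ c : ℂˣ,
      (x : intertwinerGroup θ) = lift ⟨proj θ x, x.2⟩ * scalarHom θ c :=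
    fun x => exists_scalar_of_proj_eq θ rfl
  choose r hr using hex
  have huniq : ∀ (x : ↥(Subgroup.comap (proj θ) P)) (q : P) (c : ℂˣ),
      (x : intertwinerGroup θ) = lift q * scalarHom θ c → r x = c := by
    intro x q c h
    have hq : q = ⟨proj θ x, x.2⟩ := by
      apply Subtype.ext
      have := congrArg (proj θ) h
      rw [map_mul] at this
      simpa [lift, scalarHom, proj_apply] using this.symm
    rw [hq] at h
    have h2 := (hr x).symm.trans h
    exact scalarUnit_injective (congrArg (fun z : intertwinerGroup θ => z.1.2)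
      (mul_left_cancel h2))
  refine ⟨{ toFun := r, map_one' := huniq 1 1 1 (by simp), map_mul' := fun x y => ?_ }, ?_, ?_⟩
  · refine huniq (x * y) (⟨proj θ x, x.2⟩ * ⟨proj θ y, y.2⟩) _ ?_
    rw [Subgroup.coe_mul, map_mul, map_mul (scalarHom θ)]
    conv_lhs => rw [hr x, hr y]
    rw [mul_assoc, ← mul_assoc (scalarHom θ (r x)), scalarHom_comm, mul_assoc, mul_assoc]
  · intro x c h
    exact huniq x 1 c (by rw [h, map_one lift, one_mul])
  · intro x n h
    refine huniq x ⟨(n : G), hNP n.2⟩ 1 ?_
    rw [h, map_one (scalarHom θ), mul_one]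
    exact Subtype.ext (Prod.ext rfl (hηN n).symm)

/-- An invariant irreducible representation extending to subgroups of all prime-to-`p` indices
extends to the whole group. -/
theorem exists_extension_of_forall_prime [Finite G] [θ.IsIrreducible]
    (hinv : ∀ (g : G) (n : N), θ.character (MulAut.conjNormal g n) = θ.character n)
    (hext : ∀ p : ℕ, p.Prime → ∃ (P : Subgroup G) (hNP : N ≤ P) (η : Representation ℂ P V),
      Nat.Coprime P.index p ∧ ∀ n : N, η ⟨(n : G), hNP n.2⟩ = θ n) :
    ∃ ρ : Representation ℂ G V, ∀ n : N, ρ n = θ n := by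
  have hsurj := proj_surjective θ hinv
  -- exponents realised by homomorphisms to the scalars
  let S : AddSubgroup ℤ :=
    { carrier := {k | ∃ T : intertwinerGroup θ →* ℂˣ,
        (∀ c, T (scalarHom θ c) = c ^ k) ∧ ∀ n, T (ofN θ n) = 1}
      zero_mem' := ⟨1, fun c => by simp, fun n => by simp⟩
      add_mem' := by
        rintro a b ⟨T, hT, hT'⟩ ⟨U, hU, hU'⟩
        exact ⟨T * U, fun c => by simp [hT, hU, zpow_add], fun n => by simp [hT', hU']⟩
      neg_mem' := by
        rintro a ⟨T, hT, hT'⟩
        exact ⟨T⁻¹, fun c => by simp [hT, zpow_neg], fun n => by simp [hT']⟩ }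
  have hmem : ∀ p : ℕ, p.Prime → ∃ m : ℕ, Nat.Coprime m p ∧ (m : ℤ) ∈ S := by
    intro p hp
    obtain ⟨P, hNP, η, hcop, hη⟩ := hext p hp
    set H := Subgroup.comap (proj θ) P
    obtain ⟨r, hr1, hr2⟩ : ∃ r : H →* ℂˣ,
        (∀ (x : H) c, (x : intertwinerGroup θ) = scalarHom θ c → r x = c) ∧
        ∀ (x : H) n, (x : intertwinerGroup θ) = ofN θ n → r x = 1 :=
      exists_retraction_on θ hNP η hη
    have hidx : H.index = P.index := P.index_comap_of_surjective hsurj
    have hne : H.index ≠ 0 := by
      rw [hidx]; intro h0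
      rw [h0, Nat.coprime_zero_left] at hcop
      exact hp.one_lt.ne' hcop
    haveI : H.FiniteIndex := ⟨hne⟩
    refine ⟨P.index, hcop, r.transfer, fun c => ?_, fun n => ?_⟩
    · rw [MonoidHom.transfer_eq_pow r (scalarHom θ c) (fun k g₀ _ => by
        rw [← map_pow, mul_assoc, scalarHom_comm, ← mul_assoc, inv_mul_cancel, one_mul])]
      rw [zpow_natCast]
      exact (hr1 _ (c ^ H.index) (by simp)).trans (by rw [hidx])
    · haveI : Fintype (Quotient (MulAction.orbitRel (Subgroup.zpowers (ofN θ n))
        (intertwinerGroup θ ⧸ H))) := Fintype.ofFinite _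
      rw [MonoidHom.transfer_eq_prod_quotient_orbitRel_zpowers_quot]
      refine Finset.prod_eq_one fun q _ => ?_
      set y := (Quotient.out (Quotient.out q))
      obtain ⟨k, hk⟩ : ∃ k : ℕ, k = Function.minimalPeriod (fun x => ofN θ n • x)
        (Quotient.out q) := ⟨_, rfl⟩
      refine hr2 _ (MulAut.conjNormal (proj θ y⁻¹) (n ^ k)) ?_
      rw [← conj_ofN, inv_inv, map_pow, hk]
  obtain ⟨a, ha⟩ := Int.subgroup_cyclic S
  have ha1 : a.natAbs = 1 := by
    by_contra hne
    obtain ⟨p, hp, hpa⟩ := Nat.exists_prime_and_dvd hne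
    obtain ⟨m, hm, hmS⟩ := hmem p hp
    rw [ha, AddSubgroup.mem_closure_singleton] at hmS
    obtain ⟨k, hk⟩ := hmS
    have hdvd : (p : ℤ) ∣ (m : ℤ) := by
      rw [← hk, smul_eq_mul]
      exact (Int.natCast_dvd.2 hpa).mul_left k
    exact hp.one_lt.ne' (Nat.dvd_one.1 (hm ▸ Nat.dvd_gcd (Int.natCast_dvd_natCast.1 hdvd)
      dvd_rfl))
  have h1 : (1 : ℤ) ∈ S := by
    rw [ha, AddSubgroup.mem_closure_singleton]
    exact ⟨a, by rcases Int.natAbs_eq_iff.1 ha1 with h | h <;> simp [h]⟩
  obtain ⟨T, hT, hT'⟩ := h1
  exact exists_extension_of_retraction θ hsurj T ⟨fun c => by rw [hT, zpow_one], hT'⟩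

omit hN in
/-- A representation whose restriction is irreducible is irreducible. -/
theorem isIrreducible_of_restrict [θ.IsIrreducible] (ρ : Representation ℂ G V)
    (hρ : ∀ n : N, ρ n = θ n) : ρ.IsIrreducible := by
  haveI : Nontrivial V := Char.nontrivial_of_isIrreducible θ
  refine { exists_pair_ne := ⟨⊥, ⊤, fun h => ?_⟩, eq_bot_or_eq_top := fun S => ?_ }
  · exact bot_ne_top (α := Submodule ℂ V) (congrArg Subrepresentation.toSubmodule h)
  · let S' : Subrepresentation θ := ⟨S.toSubmodule, fun n v hv => by
      rw [← hρ]; exact S.apply_mem_toSubmodule _ hv⟩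
    rcases eq_bot_or_eq_top S' with h | h
    · exact Or.inl (Subrepresentation.toSubmodule_injective
        (congrArg (fun T : Subrepresentation θ => T.toSubmodule) h :))
    · exact Or.inr (Subrepresentation.toSubmodule_injective
        (congrArg (fun T : Subrepresentation θ => T.toSubmodule) h :))

omit hN in
/-- An extension of the representation gives an irreducible extension of the character. -/
theorem exists_irrCharacter_extension [θ.IsIrreducible]
    (h : ∃ ρ : Representation ℂ G V, ∀ n : N, ρ n = θ n) :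
    ∃ χ : G → ℂ, IsIrrCharacter G χ ∧ ∀ n : N, χ n = θ.character n := by
  obtain ⟨ρ, hρ⟩ := h
  refine ⟨ρ.character, Char.isIrrCharacter_character ρ (isIrreducible_of_restrict θ ρ hρ),
    fun n => ?_⟩
  rw [Representation.character, Representation.character, hρ]

end Cfsg.Agent.Clifford
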