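import Mathlib
import Cfsg.Agent.Lib.Clifford.Extension
import Cfsg.Agent.Lib.CharInt.Eigen

/-!
# The multiplicity space of a constituent and the degree ratio

For `N ⊴ G`, a representation `ρ` of `G` and an irreducible representation `θ` of `N`, the
intertwiner group acts on the multiplicity space `Hom_N(θ, ρ)`.  Consequences: if `ρ` is
irreducible and the multiplicity space is non-zero, `deg θ ∣ deg ρ` and
`deg ρ ∣ [G : N] · deg θ`.
-/

set_option autoImplicit false
set_option linter.style.haveILetI false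
set_option linter.unusedSectionVars false

namespace Cfsg.Agent.Clifford

open Representation Module

universe u v w

/-- The trace of `h ↦ A ∘ h ∘ B` is the product of the traces. -/
theorem trace_comp_left_right {V : Type v} [AddCommGroup V] [Module ℂ V] [FiniteDimensional ℂ V]
    {U : Type w} [AddCommGroup U] [Module ℂ U] [FiniteDimensional ℂ U]
    (A : U →ₗ[ℂ] U) (B : V →ₗ[ℂ] V) :
    LinearMap.trace ℂ (V →ₗ[ℂ] U) ((LinearMap.llcomp ℂ V U U A).comp
      ((LinearMap.llcomp ℂ V V U).flip B)) = LinearMap.trace ℂ U A * LinearMap.trace ℂ V B := by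
  have key : (LinearMap.llcomp ℂ V U U A).comp ((LinearMap.llcomp ℂ V V U).flip B) =
      (dualTensorHomEquiv ℂ V U).conj (TensorProduct.map B.dualMap A) := by
    apply LinearMap.ext fun h => ?_
    obtain ⟨t, rfl⟩ := (dualTensorHomEquiv ℂ V U).surjective h
    rw [LinearEquiv.conj_apply, LinearMap.comp_apply, LinearMap.comp_apply, LinearMap.comp_apply,
      LinearEquiv.coe_coe, LinearEquiv.coe_coe, LinearEquiv.symm_apply_apply]
    induction t using TensorProduct.induction_on with
    | zero => simp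
    | tmul f u => ext v; simp [dualTensorHom_apply]
    | add a b ha hb => simp only [map_add, ha, hb]
  rw [key, LinearMap.trace_conj', LinearMap.trace_tensorProduct',
    show LinearMap.trace ℂ (Module.Dual ℂ V) B.dualMap = LinearMap.trace ℂ V B from
      LinearMap.trace_transpose' B, mul_comm]

variable {G : Type u} [Group G] {N : Subgroup G} [hN : N.Normal]
variable {V : Type v} [AddCommGroup V] [Module ℂ V] [FiniteDimensional ℂ V]
variable {U : Type w} [AddCommGroup U] [Module ℂ U] [FiniteDimensional ℂ U]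
variable (θ : Representation ℂ N V) (ρ : Representation ℂ G U)

/-- The `N`-intertwiners from `θ` to `ρ`. -/
def multSpace : Submodule ℂ (V →ₗ[ℂ] U) where
  carrier := {f | ∀ n : N, f ∘ₗ θ n = ρ (n : G) ∘ₗ f}
  add_mem' {f g} hf hg n := by
    rw [LinearMap.add_comp, LinearMap.comp_add, hf n, hg n]
  zero_mem' n := by simp
  smul_mem' c f hf n := by rw [LinearMap.smul_comp, LinearMap.comp_smul, hf n]

theorem multSpace_apply {f : V →ₗ[ℂ] U} (hf : f ∈ multSpace θ ρ) (n : N) (v : V) :
    f (θ n v) = ρ (n : G) (f v) :=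
  LinearMap.congr_fun (hf n) v

theorem act_mem (x : intertwinerGroup θ) {f : V →ₗ[ℂ] U} (hf : f ∈ multSpace θ ρ) :
    ρ x.1.1 ∘ₗ f ∘ₗ ((x.1.2⁻¹ : (Module.End ℂ V)ˣ) : Module.End ℂ V) ∈ multSpace θ ρ := by
  intro n
  have h2 := (x⁻¹).2 n
  simp only [InvMemClass.coe_inv, Prod.snd_inv, Prod.fst_inv] at h2
  have h3 : ((x.1.2⁻¹ : (Module.End ℂ V)ˣ) : Module.End ℂ V) * θ n =
      θ (MulAut.conjNormal x.1.1⁻¹ n) * ((x.1.2⁻¹ : (Module.End ℂ V)ˣ) : Module.End ℂ V) :=
    congrArg Units.val h2
  apply LinearMap.ext fun v => ?_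
  have h4 := LinearMap.congr_fun h3 v
  simp only [Module.End.mul_apply] at h4
  simp only [LinearMap.comp_apply, h4, multSpace_apply θ ρ hf]
  rw [← Module.End.mul_apply, ← map_mul, ← Module.End.mul_apply, ← map_mul]
  congr 2
  simp [mul_assoc]

/-- The action of the intertwiner group on the multiplicity space. -/
noncomputable def multRep : Representation ℂ (intertwinerGroup θ) (multSpace θ ρ) where
  toFun x :=
    { toFun := fun f =>
        ⟨ρ x.1.1 ∘ₗ f.1 ∘ₗ ((x.1.2⁻¹ : (Module.End ℂ V)ˣ) : Module.End ℂ V), act_mem θ ρ x f.2⟩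
      map_add' := fun f g => Subtype.ext (by simp [LinearMap.comp_add, LinearMap.add_comp])
      map_smul' := fun c f => Subtype.ext (by simp [LinearMap.comp_smul, LinearMap.smul_comp]) }
  map_one' := by
    refine LinearMap.ext fun f => Subtype.ext (LinearMap.ext fun v => ?_)
    simp
  map_mul' x y := by
    refine LinearMap.ext fun f => Subtype.ext (LinearMap.ext fun v => ?_)
    simp [map_mul]

theorem multRep_coe (x : intertwinerGroup θ) (f : multSpace θ ρ) :
    ((multRep θ ρ x f : multSpace θ ρ) : V →ₗ[ℂ] U) =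
      ρ x.1.1 ∘ₗ f.1 ∘ₗ ((x.1.2⁻¹ : (Module.End ℂ V)ˣ) : Module.End ℂ V) := rfl

/-- Averaging onto the multiplicity space. -/
noncomputable def multProj [Fintype N] : (V →ₗ[ℂ] U) →ₗ[ℂ] (V →ₗ[ℂ] U) :=
  (Fintype.card N : ℂ)⁻¹ • ∑ n : N, (LinearMap.llcomp ℂ V U U (ρ ((n : G)⁻¹))).comp
    ((LinearMap.llcomp ℂ V V U).flip (θ n))

theorem multProj_apply [Fintype N] (h : V →ₗ[ℂ] U) (v : V) :
    multProj θ ρ h v = (Fintype.card N : ℂ)⁻¹ • ∑ n : N, ρ ((n : G)⁻¹) (h (θ n v)) := by
  simp [multProj]

theorem multProj_mem [Fintype N] (h : V →ₗ[ℂ] U) : multProj θ ρ h ∈ multSpace θ ρ := by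
  intro m
  apply LinearMap.ext fun v => ?_
  simp only [LinearMap.comp_apply, multProj_apply, map_smul, map_sum]
  congr 1
  refine Fintype.sum_equiv (Equiv.mulRight m) _ _ fun n => ?_
  show _ = ρ (m : G) (ρ (((n * m : N) : G)⁻¹) (h (θ (n * m) v)))
  rw [← Module.End.mul_apply (ρ (m : G)), ← map_mul ρ, map_mul θ, Module.End.mul_apply]
  congr 2
  simp

theorem multProj_eq_self [Fintype N] {f : V →ₗ[ℂ] U} (hf : f ∈ multSpace θ ρ) :
    multProj θ ρ f = f := by
  apply LinearMap.ext fun v => ?_
  rw [multProj_apply]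
  have : ∀ n : N, ρ ((n : G)⁻¹) (f (θ n v)) = f v := fun n => by
    rw [multSpace_apply θ ρ hf, ← Module.End.mul_apply, ← map_mul, inv_mul_cancel, map_one]; rfl
  rw [Finset.sum_congr rfl fun n _ => this n, Finset.sum_const, Finset.card_univ,
    ← Nat.cast_smul_eq_nsmul ℂ, smul_smul, inv_mul_cancel₀, one_smul]
  exact Nat.cast_ne_zero.2 Fintype.card_ne_zero

/-- Translates outside the inertia group project to zero. -/
theorem multProj_translate_eq_zero [Fintype N] [θ.IsIrreducible] {f : V →ₗ[ℂ] U}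
    (hf : f ∈ multSpace θ ρ) {g : G} (hg : g ∉ (proj θ).range) :
    multProj θ ρ (ρ g ∘ₗ f) = 0 := by
  set A : Module.End ℂ V :=
    (Fintype.card N : ℂ)⁻¹ • ∑ n : N, θ (MulAut.conjNormal g⁻¹ n⁻¹) * θ n with hA
  have hfac : multProj θ ρ (ρ g ∘ₗ f) = ρ g ∘ₗ f ∘ₗ A := by
    apply LinearMap.ext fun v => ?_
    simp only [multProj_apply, hA, LinearMap.comp_apply, LinearMap.smul_apply,
      LinearMap.sum_apply, map_smul, map_sum, Module.End.mul_apply]
    congr 1
    refine Finset.sum_congr rfl fun n _ => ?_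
    rw [multSpace_apply θ ρ hf (MulAut.conjNormal g⁻¹ n⁻¹), ← Module.End.mul_apply,
      ← Module.End.mul_apply, ← map_mul, ← map_mul]
    congr 2
    simp [mul_assoc]
  have hint : ∀ m : N, A * θ m = θ (MulAut.conjNormal g⁻¹ m) * A := by
    intro m
    rw [hA, smul_mul_assoc, mul_smul_comm, Finset.sum_mul, Finset.mul_sum]
    congr 1
    refine Fintype.sum_equiv (Equiv.mulRight m) _ _ fun n => ?_
    simp only [Equiv.coe_mulRight]
    rw [← map_mul θ, ← map_mul θ, ← map_mul θ, ← map_mul θ]
    congr 1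
    apply Subtype.ext
    simp [mul_assoc]
  have hnu : ¬ IsUnit A := by
    rintro ⟨a, ha⟩
    apply hg
    have hmem : (g⁻¹, a) ∈ intertwinerGroup θ := fun m => Units.ext (by
      show (a : Module.End ℂ V) * θ m = θ (MulAut.conjNormal g⁻¹ m) * (a : Module.End ℂ V)
      rw [ha]; exact hint m)
    refine ⟨(⟨(g⁻¹, a), hmem⟩ : intertwinerGroup θ)⁻¹, ?_⟩
    simp [proj_apply]
  have hker : LinearMap.ker A ≠ ⊥ := fun h => hnu ((LinearMap.isUnit_iff_ker_eq_bot A).2 h)
  let K : Subrepresentation θ := ⟨LinearMap.ker A, fun m v hv => by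
    rw [LinearMap.mem_ker] at hv ⊢
    rw [← Module.End.mul_apply, hint, Module.End.mul_apply, hv, map_zero]⟩
  have hA0 : A = 0 := by
    rcases eq_bot_or_eq_top K with h | h
    · exact absurd (congrArg (fun T : Subrepresentation θ => T.toSubmodule) h) hker
    · exact LinearMap.ker_eq_top.1 (congrArg (fun T : Subrepresentation θ => T.toSubmodule) h)
  rw [hfac, hA0, LinearMap.comp_zero, LinearMap.comp_zero]

/-- The average of `χ((n g)⁻¹) tr(θ(n) a)` is the trace of `(g, a)⁻¹` on the multiplicity space. -/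
theorem average_eq_trace_multRep [Fintype N] (x : intertwinerGroup θ) :
    (Fintype.card N : ℂ)⁻¹ * ∑ n : N, ρ.character (((n : G) * x.1.1)⁻¹) *
        LinearMap.trace ℂ V (θ n * (x.1.2 : Module.End ℂ V)) =
      (multRep θ ρ).character x⁻¹ := by
  set Φ : (V →ₗ[ℂ] U) →ₗ[ℂ] (V →ₗ[ℂ] U) :=
    (Fintype.card N : ℂ)⁻¹ • ∑ n : N,
      (LinearMap.llcomp ℂ V U U (ρ (((n : G) * x.1.1)⁻¹))).comp
        ((LinearMap.llcomp ℂ V V U).flip (θ n * (x.1.2 : Module.End ℂ V))) with hΦ
  have htr : LinearMap.trace ℂ _ Φ = (Fintype.card N : ℂ)⁻¹ * ∑ n : N,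
      ρ.character (((n : G) * x.1.1)⁻¹) *
        LinearMap.trace ℂ V (θ n * (x.1.2 : Module.End ℂ V)) := by
    rw [hΦ, map_smul, map_sum, smul_eq_mul]
    simp only [trace_comp_left_right, Representation.character]
  have hfac : ∀ h v, Φ h v = ρ x.1.1⁻¹ (multProj θ ρ h ((x.1.2 : Module.End ℂ V) v)) := by
    intro h v
    simp [hΦ, multProj_apply, map_mul]
  have hΦh : ∀ h, Φ h =
      ((multRep θ ρ x⁻¹ ⟨_, multProj_mem θ ρ h⟩ : multSpace θ ρ) : V →ₗ[ℂ] U) := by
    intro h
    apply LinearMap.ext fun v => ?_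
    rw [hfac, multRep_coe]
    simp
  let Ψ : (V →ₗ[ℂ] U) →ₗ[ℂ] multSpace θ ρ :=
    Φ.codRestrict _ fun h => by rw [hΦh]; exact Subtype.mem _
  have h2 : Ψ ∘ₗ (multSpace θ ρ).subtype = multRep θ ρ x⁻¹ := by
    refine LinearMap.ext fun f => Subtype.ext ?_
    show Φ f.1 = _
    rw [hΦh]
    congr 2
    exact Subtype.ext (multProj_eq_self θ ρ f.2)
  have h3 : (multSpace θ ρ).subtype ∘ₗ Ψ = Φ := LinearMap.ext fun h => rfl
  rw [← htr, Representation.character, ← h2, ← h3, LinearMap.trace_comp_comm']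

/-- The degree of a constituent on a normal subgroup divides the degree. -/
theorem finrank_dvd [θ.IsIrreducible] [ρ.IsIrreducible] {f : V →ₗ[ℂ] U}
    (hf : f ∈ multSpace θ ρ) (hf0 : f ≠ 0) : finrank ℂ V ∣ finrank ℂ U := by
  classical
  -- `N`-invariant submodules of dimension divisible by `dim V`
  let good : Set ℕ := {k | ∃ S : Submodule ℂ U, (∀ n : N, ∀ u ∈ S, ρ (n : G) u ∈ S) ∧
    finrank ℂ V ∣ finrank ℂ S ∧ finrank ℂ S = k}
  have hne : good.Nonempty := ⟨0, ⊥, by simp, by simp, by simp⟩
  have hbdd : BddAbove good := ⟨finrank ℂ U, by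
    rintro k ⟨S, -, -, rfl⟩; exact Submodule.finrank_le S⟩
  obtain ⟨S, hS, hdvd, hmax⟩ := Nat.sSup_mem hne hbdd
  suffices htop : S = ⊤ by rw [htop, finrank_top] at hdvd; exact hdvd
  by_contra hStop
  obtain ⟨g, hgS⟩ : ∃ g : G, ¬ LinearMap.range (ρ g ∘ₗ f) ≤ S := by
    by_contra hcon
    push Not at hcon
    let T : Subrepresentation ρ := ⟨⨆ g : G, LinearMap.range (ρ g ∘ₗ f), fun k u hu => by
      have hle : (⨆ g : G, LinearMap.range (ρ g ∘ₗ f)) ≤
          Submodule.comap (ρ k) (⨆ g : G, LinearMap.range (ρ g ∘ₗ f)) := by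
        refine iSup_le fun g => ?_
        rintro _ ⟨v, rfl⟩
        exact Submodule.mem_iSup_of_mem (k * g) ⟨v, by simp [map_mul]⟩
      exact hle hu⟩
    rcases eq_bot_or_eq_top T with h | h
    · apply hf0
      apply LinearMap.ext fun v => ?_
      have h' := congrArg (fun T : Subrepresentation ρ => T.toSubmodule) h
      have hmem : ρ (1 : G) (f v) ∈ T.toSubmodule := Submodule.mem_iSup_of_mem 1 ⟨v, rfl⟩
      rw [show T.toSubmodule = ⊥ from h', Submodule.mem_bot, map_one] at hmem
      exact hmem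
    · exact hStop (top_le_iff.1 ((congrArg (fun T : Subrepresentation ρ => T.toSubmodule)
        h).symm.le.trans (iSup_le hcon)))
  set h := ρ g ∘ₗ f with hh
  have hinter : ∀ n : N, ∀ v, ρ (n : G) (h v) = h (θ (MulAut.conjNormal g⁻¹ n) v) := by
    intro n v
    simp only [hh, LinearMap.comp_apply, multSpace_apply θ ρ hf]
    rw [← Module.End.mul_apply, ← Module.End.mul_apply, ← map_mul, ← map_mul]
    congr 2
    simp [mul_assoc]
  let K : Subrepresentation θ := ⟨Submodule.comap h S, fun m v hv => by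
    show h (θ m v) ∈ S
    have e : MulAut.conjNormal g⁻¹ (MulAut.conjNormal g m) = m := by
      rw [← MulAut.mul_apply, ← map_mul, inv_mul_cancel, map_one, MulAut.one_apply]
    rw [← e, ← hinter]
    exact hS _ _ hv⟩
  have hK : Submodule.comap h S = ⊥ := by
    rcases eq_bot_or_eq_top K with hK | hK
    · exact congrArg (fun T : Subrepresentation θ => T.toSubmodule) hK
    · exfalso
      apply hgS
      rintro _ ⟨v, rfl⟩
      have hv : v ∈ Submodule.comap h S := by
        rw [show Submodule.comap h S = ⊤ from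
          congrArg (fun T : Subrepresentation θ => T.toSubmodule) hK]
        trivial
      exact hv
  have hinj : Function.Injective h := by
    rw [← LinearMap.ker_eq_bot, eq_bot_iff, ← hK]
    intro v hv
    rw [LinearMap.mem_ker] at hv
    rw [Submodule.mem_comap, hv]
    exact S.zero_mem
  have hdisj : S ⊓ LinearMap.range h = ⊥ := by
    rw [eq_bot_iff]
    rintro _ ⟨hu, v, rfl⟩
    have hv : v ∈ Submodule.comap h S := hu
    rw [hK, Submodule.mem_bot] at hv
    simp [hv]
  have hdim : finrank ℂ ↥(S ⊔ LinearMap.range h) = finrank ℂ S + finrank ℂ V := by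
    have h1 := Submodule.finrank_sup_add_finrank_inf_eq S (LinearMap.range h)
    rw [hdisj, finrank_bot, add_zero, LinearMap.finrank_range_of_inj hinj] at h1
    exact h1
  have hbig : finrank ℂ S + finrank ℂ V ∈ good := by
    refine ⟨S ⊔ LinearMap.range h, ?_, by rw [hdim]; exact Nat.dvd_add hdvd dvd_rfl, hdim⟩
    intro n u hu
    obtain ⟨s, hs, _, ⟨v, rfl⟩, rfl⟩ := Submodule.mem_sup.1 hu
    rw [map_add, hinter]
    exact Submodule.add_mem _ (Submodule.mem_sup_left (hS n s hs))
      (Submodule.mem_sup_right ⟨_, rfl⟩)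
  have hle := le_csSup hbdd hbig
  haveI : Nontrivial V := Char.nontrivial_of_isIrreducible θ
  have hpos : 0 < finrank ℂ V := Module.finrank_pos
  omega

/-- The elements of the intertwiner group with a root of unity as determinant. -/
noncomputable def finitePart (k : ℕ) : Subgroup (intertwinerGroup θ) :=
  (((powMonoidHom k : ℂˣ →* ℂˣ).comp (Units.map (LinearMap.det : Module.End ℂ V →* ℂ))).comp
    ((MonoidHom.snd G _).comp (intertwinerGroup θ).subtype)).ker

theorem mem_finitePart {k : ℕ} {x : intertwinerGroup θ} :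
    x ∈ finitePart θ k ↔ LinearMap.det (x.1.2 : Module.End ℂ V) ^ k = 1 := by
  simp [finitePart, Units.ext_iff]

theorem det_scalarUnit (c : ℂˣ) :
    LinearMap.det ((scalarUnit V c : (Module.End ℂ V)ˣ) : Module.End ℂ V) =
      (c : ℂ) ^ finrank ℂ V := by
  rw [coe_scalarUnit, Algebra.algebraMap_eq_smul_one, LinearMap.det_smul, map_one, mul_one]

theorem finite_finitePart [Finite G] [θ.IsIrreducible] {k : ℕ} (hk : k ≠ 0) :
    Finite (finitePart θ k) := by
  haveI : Nontrivial V := Char.nontrivial_of_isIrreducible θ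
  set φ := (proj θ).comp (finitePart θ k).subtype
  haveI : NeZero (finrank ℂ V * k) := ⟨mul_ne_zero (Module.finrank_pos).ne' hk⟩
  haveI : Finite φ.ker := by
    have hker : ∀ x : φ.ker, ∃ c : rootsOfUnity (finrank ℂ V * k) ℂ,
        (x.1 : intertwinerGroup θ) = scalarHom θ c.1 := by
      intro x
      obtain ⟨c, hc⟩ := exists_scalar_of_proj_eq θ
        (x := (1 : intertwinerGroup θ)) (y := x.1.1) (by rw [map_one]; exact x.2.symm)
      rw [one_mul] at hc
      refine ⟨⟨c, ?_⟩, hc⟩
      have := (mem_finitePart θ).1 x.1.2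
      rw [show (x.1.1.1.2 : Module.End ℂ V) = (scalarUnit V c : (Module.End ℂ V)ˣ) by rw [hc]; rfl,
        det_scalarUnit, ← pow_mul] at this
      rw [mem_rootsOfUnity']
      exact this
    choose c hc using hker
    refine Finite.of_injective c fun x y hxy => ?_
    exact Subtype.ext (Subtype.ext ((hc x).trans (by rw [hxy, ← hc y])))
  haveI : Finite φ.range := inferInstance
  refine Nat.finite_of_card_ne_zero ?_
  rw [← φ.ker.card_mul_index, Subgroup.index_ker]
  exact mul_ne_zero Nat.card_pos.ne' Nat.card_pos.ne'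

/-- Each fibre of the projection over its range meets the finite part. -/
theorem exists_finitePart_of_mem_range [θ.IsIrreducible] {k : ℕ} {g : G}
    (hg : g ∈ (proj θ).range) : ∃ x : finitePart θ k, proj θ x.1 = g := by
  haveI : Nontrivial V := Char.nontrivial_of_isIrreducible θ
  obtain ⟨x, rfl⟩ := hg
  have hd : 0 < finrank ℂ V := Module.finrank_pos
  set D : ℂ := LinearMap.det (x.1.2 : Module.End ℂ V) with hD
  have hD0 : D ≠ 0 := (Units.map (LinearMap.det : Module.End ℂ V →* ℂ) x.1.2).ne_zero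
  obtain ⟨z, hz⟩ := IsAlgClosed.exists_pow_nat_eq D⁻¹ hd
  have hz0 : z ≠ 0 := by
    rintro rfl
    rw [zero_pow hd.ne'] at hz
    exact inv_ne_zero hD0 hz.symm
  refine ⟨⟨x * scalarHom θ (Units.mk0 z hz0), ?_⟩, ?_⟩
  · rw [mem_finitePart]
    show LinearMap.det ((x.1.2 * scalarUnit V (Units.mk0 z hz0) : (Module.End ℂ V)ˣ) :
      Module.End ℂ V) ^ k = 1
    rw [Units.val_mul, map_mul, det_scalarUnit, Units.val_mk0, hz, ← hD, mul_inv_cancel₀ hD0,
      one_pow]
  · show proj θ (x * scalarHom θ (Units.mk0 z hz0)) = proj θ x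
    rw [map_mul]
    simp [proj_apply, scalarHom]

/-- The degree of an irreducible representation divides the index of a normal subgroup times the
degree of any constituent there. -/
theorem dvd_index_mul [Finite G] [θ.IsIrreducible] [ρ.IsIrreducible] {f : V →ₗ[ℂ] U}
    (hf : f ∈ multSpace θ ρ) (hf0 : f ≠ 0) : finrank ℂ U ∣ N.index * finrank ℂ V := by
  classical
  haveI := Fintype.ofFinite G
  haveI := Fintype.ofFinite N
  haveI : Fintype (G ⧸ N) := Fintype.ofFinite _
  haveI : Nontrivial V := Char.nontrivial_of_isIrreducible θ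
  haveI : Nontrivial U := Char.nontrivial_of_isIrreducible ρ
  set Γf := finitePart θ (Nat.card G)
  haveI : Finite Γf := finite_finitePart θ Nat.card_pos.ne'
  let π : Representation ℂ Γf (multSpace θ ρ) := (multRep θ ρ).comp Γf.subtype
  set χ := ρ.character with hχdef
  have hχ : IsIrrCharacter G χ := Char.isIrrCharacter_character ρ inferInstance
  have hchar := Char.IsIrrCharacter.isCharacter hχ
  have hcl := Char.IsCharacter.isClassFunction hchar
  have hU : χ 1 = (finrank ℂ U : ℂ) := by simp [hχdef]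
  have hU0 : (finrank ℂ U : ℂ) ≠ 0 := Nat.cast_ne_zero.2 Module.finrank_pos.ne'
  have hV0 : (finrank ℂ V : ℂ) ≠ 0 := Nat.cast_ne_zero.2 Module.finrank_pos.ne'
  -- the scalar identity on `U`
  obtain ⟨s, hs⟩ := Char.exists_opSum_eq_smul (c := fun g => χ g⁻¹)
    (fun a b => by
      show χ (b * a * b⁻¹)⁻¹ = χ a⁻¹
      rw [show (b * a * b⁻¹)⁻¹ = b * a⁻¹ * b⁻¹ by group]
      exact hcl _ _) ρ
  have hs1 : s * (finrank ℂ U : ℂ) = (Nat.card G : ℂ) := by
    have h1 := Char.classInner_irr_self hχ
    rw [classInner, inv_mul_eq_one₀ Char.card_ne_zero] at h1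
    have h2 := Char.trace_opSum (fun g => χ g⁻¹) ρ
    rw [show Char.opSum (fun g => χ g⁻¹) ρ = s • (1 : Module.End ℂ U) from
      LinearMap.ext fun v => by rw [hs v]; rfl, map_smul, LinearMap.trace_one, smul_eq_mul] at h2
    rw [h2, h1]
    simp only [← hχdef, Char.IsCharacter.conj_apply hchar, mul_comm]
  -- coset representatives
  let t : G ⧸ N → G := fun q => q.out
  let e : (G ⧸ N) × N ≃ G :=
    { toFun := fun x => x.2.1 * t x.1
      invFun := fun g => (QuotientGroup.mk g, ⟨g * (t (QuotientGroup.mk g))⁻¹, by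
        rw [← div_eq_mul_inv, ← QuotientGroup.eq_iff_div_mem]
        exact (QuotientGroup.out_eq' _).symm⟩)
      left_inv := fun x => by
        have hq : (QuotientGroup.mk ((x.2 : G) * t x.1) : G ⧸ N) = x.1 := by
          rw [QuotientGroup.mk_mul, (QuotientGroup.eq_one_iff _).2 x.2.2, one_mul]
          exact QuotientGroup.out_eq' _
        refine Prod.ext hq (Subtype.ext ?_)
        simp only [hq, mul_inv_cancel_right]
      right_inv := fun g => by simp }
  -- lifts to the finite part
  let lift : G ⧸ N → Γf := fun q =>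
    if h : ∃ x : Γf, proj θ x.1 = t q then h.choose else 1
  let γ : G ⧸ N → ℂ := fun q =>
    if t q ∈ (proj θ).range then π.character (lift q)⁻¹ else 0
  have hlift : ∀ q, t q ∈ (proj θ).range → proj θ (lift q).1 = t q := by
    intro q hq
    simp only [lift]
    rw [dif_pos (exists_finitePart_of_mem_range θ hq)]
    exact Exists.choose_spec (exists_finitePart_of_mem_range (k := Nat.card G) θ hq)
  -- the main identity
  have hmain : ∀ w : multSpace θ ρ, (s * (finrank ℂ V : ℂ) / (Fintype.card N : ℂ)) • w =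
      ∑ q : G ⧸ N, γ q • π (lift q) w := by
    intro w
    have h1 : s • (w : V →ₗ[ℂ] U) =
        ∑ q : G ⧸ N, ∑ n : N, χ ((n : G) * t q)⁻¹ • (ρ (n : G) ∘ₗ (ρ (t q) ∘ₗ (w : V →ₗ[ℂ] U))) := by
      apply LinearMap.ext fun v => ?_
      simp only [LinearMap.sum_apply, LinearMap.smul_apply, LinearMap.comp_apply]
      rw [← hs, Char.opSum_apply, ← e.sum_comp, Fintype.sum_prod_type]
      simp [e, map_mul]
    have h2 := congrArg (multProj θ ρ) h1
    rw [map_smul, multProj_eq_self θ ρ w.2, map_sum] at h2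
    have hterm : ∀ q : G ⧸ N, multProj θ ρ
        (∑ n : N, χ ((n : G) * t q)⁻¹ • (ρ (n : G) ∘ₗ (ρ (t q) ∘ₗ (w : V →ₗ[ℂ] U)))) =
        ((Fintype.card N : ℂ) / (finrank ℂ V : ℂ) * γ q) •
          ((π (lift q) w : multSpace θ ρ) : V →ₗ[ℂ] U) := by
      intro q
      by_cases hq : t q ∈ (proj θ).range
      · have hx := hlift q hq
        set x := (lift q).1 with hxdef
        set a : Module.End ℂ V := (x.1.2 : Module.End ℂ V) with hadef
        set wx : V →ₗ[ℂ] U := ((π (lift q) w : multSpace θ ρ) : V →ₗ[ℂ] U) with hwxdef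
        have hwx : wx ∈ multSpace θ ρ := Subtype.mem _
        have hdef : ρ (t q) ∘ₗ (w : V →ₗ[ℂ] U) = wx ∘ₗ a := by
          apply LinearMap.ext fun v => ?_
          rw [hwxdef, show π (lift q) w = multRep θ ρ x w from rfl, multRep_coe]
          simp only [LinearMap.comp_apply, hadef, ← Module.End.mul_apply, ← Units.val_mul,
            inv_mul_cancel, Units.val_one, Module.End.one_apply]
          rw [← proj_apply, hx]
        set B : Module.End ℂ V := ∑ n : N, χ ((n : G) * t q)⁻¹ • (θ n * a) with hB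
        have hsum : (∑ n : N, χ ((n : G) * t q)⁻¹ • (ρ (n : G) ∘ₗ (ρ (t q) ∘ₗ (w : V →ₗ[ℂ] U)))) =
            wx ∘ₗ B := by
          apply LinearMap.ext fun v => ?_
          simp [hB, hdef, map_sum, multSpace_apply θ ρ hwx]
        have hcomm : ∀ m : N, B * θ m = θ m * B := by
          intro m
          rw [hB, Finset.sum_mul, Finset.mul_sum]
          refine Fintype.sum_equiv ((Equiv.mulRight (MulAut.conjNormal (t q) m)).trans
            (Equiv.mulLeft m⁻¹)) _ _ fun n => ?_
          have hxm : a * θ m = θ (MulAut.conjNormal (t q) m) * a := by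
            have := congrArg Units.val (x.2 m)
            rw [← proj_apply, hx] at this
            exact this
          simp only [Equiv.trans_apply, Equiv.coe_mulRight, Equiv.coe_mulLeft, smul_mul_assoc,
            mul_smul_comm, Subgroup.coe_mul, Subgroup.coe_inv, MulAut.conjNormal_apply]
          rw [mul_assoc (θ n), hxm, ← mul_assoc, ← mul_assoc (θ m), ← map_mul, ← map_mul,
            mul_inv_cancel_left]
          congr 1
          rw [show ((m : G)⁻¹ * ((n : G) * (t q * (m : G) * (t q)⁻¹)) * t q)⁻¹ =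
            (m : G)⁻¹ * ((n : G) * t q)⁻¹ * ((m : G)⁻¹)⁻¹ by group, hcl]
        obtain ⟨β, hβ⟩ := exists_scalar_of_commute θ B hcomm
        have hγ : γ q = π.character (lift q)⁻¹ := if_pos hq
        have hβ' : β = (Fintype.card N : ℂ) / (finrank ℂ V : ℂ) * γ q := by
          have htr : LinearMap.trace ℂ V B = β * (finrank ℂ V : ℂ) := by
            rw [hβ, Algebra.algebraMap_eq_smul_one, map_smul, LinearMap.trace_one, smul_eq_mul]
          have htr2 : LinearMap.trace ℂ V B = (Fintype.card N : ℂ) * γ q := by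
            have havg := average_eq_trace_multRep θ ρ x
            rw [show x.1.1 = t q from hx] at havg
            rw [hγ, show π.character (lift q)⁻¹ = (multRep θ ρ).character x⁻¹ from rfl, ← havg,
              ← mul_assoc, mul_inv_cancel₀ (Nat.cast_ne_zero.2 Fintype.card_ne_zero), one_mul,
              hB, map_sum]
            simp only [map_smul, smul_eq_mul]
            exact Finset.sum_congr rfl fun n _ => rfl
          field_simp
          linear_combination htr.symm.trans htr2
        rw [hsum, hβ, hβ']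
        rw [show ∀ c : ℂ, wx ∘ₗ (algebraMap ℂ (Module.End ℂ V) c) = c • wx from fun c =>
          LinearMap.ext fun v => by simp [Module.algebraMap_end_apply]]
        exact map_smul (multProj θ ρ) _ _ |>.trans (by rw [multProj_eq_self θ ρ hwx])
      · rw [map_sum, Finset.sum_eq_zero, show γ q = 0 from if_neg hq, mul_zero, zero_smul]
        intro n _
        rw [map_smul, ← LinearMap.comp_assoc, ← Module.End.mul_eq_comp, ← map_mul,
          multProj_translate_eq_zero θ ρ w.2, smul_zero]
        intro hn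
        refine hq ?_
        have := (proj θ).range.mul_mem ((proj θ).range.inv_mem ⟨ofN θ n, rfl⟩) hn
        simpa [ofN, proj_apply] using this
    rw [Finset.sum_congr rfl fun q _ => hterm q] at h2
    apply Subtype.ext
    have hN0 : (Fintype.card N : ℂ) ≠ 0 := Nat.cast_ne_zero.2 Fintype.card_ne_zero
    simp only [SetLike.val_smul, AddSubmonoidClass.coe_finsetSum]
    rw [mul_comm s, mul_div_right_comm, mul_smul, h2, Finset.smul_sum]
    refine Finset.sum_congr rfl fun q _ => ?_
    rw [smul_smul]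
    congr 1
    field_simp
  -- integrality
  set z : ℂ := s * (finrank ℂ V : ℂ) / (Fintype.card N : ℂ)
  have hγint : ∀ q, IsIntegral ℤ (γ q) := by
    intro q
    simp only [γ]
    split
    · exact CharInt.isIntegral_character π _
    · exact isIntegral_zero
  have hzint : IsIntegral ℤ z := by
    set A := integralClosure ℤ ℂ
    let φ : MonoidAlgebra A Γf →ₐ[A] Module.End ℂ (multSpace θ ρ) := MonoidAlgebra.lift A _ Γf π
    have hop : algebraMap ℂ (Module.End ℂ (multSpace θ ρ)) z =
        φ (∑ q : G ⧸ N, MonoidAlgebra.single (lift q) (⟨γ q, hγint q⟩ : A)) := by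
      apply LinearMap.ext fun w => ?_
      rw [Module.algebraMap_end_apply, hmain]
      simp [φ, map_sum]
      rfl
    have hint : IsIntegral A (algebraMap ℂ (Module.End ℂ (multSpace θ ρ)) z) := by
      rw [hop]
      exact (IsIntegral.of_finite A _).map φ
    haveI : Nontrivial (multSpace θ ρ) :=
      ⟨⟨⟨f, hf⟩, 0, fun h => hf0 (congrArg Subtype.val h)⟩⟩
    have hzA : IsIntegral A z :=
      (isIntegral_algebraMap_iff (FaithfulSMul.algebraMap_injective ℂ _)).1 hint
    exact isIntegral_trans z hzA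
  have hz : z = algebraMap ℚ ℂ (((N.index * finrank ℂ V : ℕ) : ℚ) / (finrank ℂ U : ℚ)) := by
    rw [map_div₀, map_natCast, map_natCast, eq_div_iff hU0]
    have hcard : (Nat.card G : ℂ) = (Fintype.card N : ℂ) * (N.index : ℂ) := by
      rw [← Nat.card_eq_fintype_card, ← N.card_mul_index, Nat.cast_mul]
    have hN0 : (Fintype.card N : ℂ) ≠ 0 := Nat.cast_ne_zero.2 Fintype.card_ne_zero
    simp only [z]
    push_cast
    field_simp
    linear_combination hs1.trans hcard
  rw [hz] at hzint
  obtain ⟨m, hm⟩ := IsIntegrallyClosed.isIntegral_iff.1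
    ((isIntegral_algebraMap_iff (FaithfulSMul.algebraMap_injective ℚ ℂ)).1 hzint)
  have hU0' : (finrank ℂ U : ℚ) ≠ 0 := Nat.cast_ne_zero.2 Module.finrank_pos.ne'
  rw [eq_intCast, eq_div_iff hU0'] at hm
  have : m * (finrank ℂ U : ℤ) = ((N.index * finrank ℂ V : ℕ) : ℤ) := by exact_mod_cast hm
  exact Int.natCast_dvd_natCast.1 ⟨m, by rw [← this, mul_comm]⟩

end Cfsg.Agent.Clifford
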