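import Cfsg.Agent.Lib.Clifford.CyclicQuotient
import Cfsg.Agent.Lib.Clifford.DegreeRatio
import Cfsg.Agent.Lib.Char.CliffordCorrespondence
import Cfsg.Agent.Lib.Char.Gallagher
import Cfsg.Agent.Lib.CharInt.Central

/-!
# Extension in coprime situations; the canonical extension

An invariant `θ ∈ Irr N` with `θ(1) * o(θ)` prime to `[G : N]` has exactly one extension whose
determinant has order dividing `o(θ)`.
-/

set_option autoImplicit false
set_option linter.style.haveILetI false
set_option linter.unusedSectionVars false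

namespace Cfsg.Agent.Clifford

open Representation Module

universe u v w

section Existence

variable {G : Type u} [Group G] [Finite G] {N : Subgroup G} [hN : N.Normal]
variable {V : Type v} [AddCommGroup V] [Module ℂ V] [FiniteDimensional ℂ V]

/-- The coprime extension theorem. -/
theorem exists_extension_of_coprime (θ : Representation ℂ N V) [θ.IsIrreducible]
    (hinv : ∀ (g : G) (n : N), θ.character (MulAut.conjNormal g n) = θ.character n)
    {k : ℕ} (hk : k ≠ 0) (hdet : ∀ n : N, LinearMap.det (θ n) ^ k = 1)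
    (hco : Nat.Coprime N.index (finrank ℂ V * k)) :
    ∃ ρ : Representation ℂ G V, ∀ n : N, ρ n = θ n := by
  haveI : Nontrivial V := Char.nontrivial_of_isIrreducible θ
  have hsurj := proj_surjective θ hinv
  haveI : Finite (finitePart θ k) := finite_finitePart θ hk
  have hofN : ∀ n, ofN θ n ∈ finitePart θ k := fun n => (mem_finitePart θ).2 (hdet n)
  set N' : Subgroup (finitePart θ k) := (ofN θ).range.subgroupOf (finitePart θ k) with hN'
  haveI : N'.Normal := ⟨fun x hx y => by
    obtain ⟨n, hn⟩ := Subgroup.mem_subgroupOf.1 hx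
    refine Subgroup.mem_subgroupOf.2 ⟨MulAut.conjNormal (proj θ (y : intertwinerGroup θ)) n, ?_⟩
    rw [← conj_ofN, hn]
    rfl⟩
  set ψ : finitePart θ k →* G ⧸ N :=
    (QuotientGroup.mk' N).comp ((proj θ).comp (finitePart θ k).subtype) with hψ
  have hψs : Function.Surjective ψ := fun q => by
    obtain ⟨g, rfl⟩ := QuotientGroup.mk_surjective q
    obtain ⟨x, hx⟩ := exists_finitePart_of_mem_range θ (k := k) (g := g)
      (MonoidHom.mem_range.2 (hsurj g))
    exact ⟨x, congrArg (QuotientGroup.mk' N) hx⟩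
  have hψN : ∀ x ∈ N', ψ x = 1 := fun x hx => by
    obtain ⟨n, hn⟩ := Subgroup.mem_subgroupOf.1 hx
    show ((proj θ (x : intertwinerGroup θ) : G) : G ⧸ N) = 1
    rw [← hn, QuotientGroup.eq_one_iff]
    exact n.2
  set ψ' := QuotientGroup.lift N' ψ hψN with hψ'
  have hψ's : Function.Surjective ψ' := fun q => by
    obtain ⟨x, hx⟩ := hψs q
    exact ⟨(x : finitePart θ k ⧸ N'), hx⟩
  have hidx : ψ'.ker.index = N.index := by
    rw [Subgroup.index_ker, MonoidHom.range_eq_top.2 hψ's, Subgroup.card_top]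
    exact (Subgroup.index_eq_card N).symm
  -- elements of the kernel are scalars times `N`
  have hker : ∀ x : finitePart θ k, ψ x = 1 → ∃ (n : N) (c : ℂˣ), c ^ (finrank ℂ V * k) = 1 ∧
      (x : intertwinerGroup θ) = ofN θ n * scalarHom θ c := fun x hx => by
    have hn : proj θ (x : intertwinerGroup θ) ∈ N := (QuotientGroup.eq_one_iff _).1 hx
    obtain ⟨c, hc⟩ := exists_scalar_of_proj_eq θ (x := ofN θ ⟨_, hn⟩) (y := (x : intertwinerGroup θ))
      rfl
    refine ⟨⟨_, hn⟩, c, ?_, hc⟩
    have h1 := (mem_finitePart θ).1 x.2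
    rw [hc] at h1
    have h2 : LinearMap.det (θ ⟨_, hn⟩ * ((scalarUnit V c : (Module.End ℂ V)ˣ) : Module.End ℂ V)) ^ k =
        1 := h1
    rw [map_mul, mul_pow, hdet, one_mul, det_scalarUnit, ← pow_mul] at h2
    exact Units.ext (by simpa using h2)
  haveI : NeZero (finrank ℂ V * k) := ⟨mul_ne_zero Module.finrank_pos.ne' hk⟩
  set ι : rootsOfUnity (finrank ℂ V * k) ℂ →* finitePart θ k :=
    ((scalarHom θ).comp (rootsOfUnity (finrank ℂ V * k) ℂ).subtype).codRestrict _ fun c => by
      refine (mem_finitePart θ).2 ?_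
      show LinearMap.det ((scalarUnit V (c : ℂˣ) : (Module.End ℂ V)ˣ) : Module.End ℂ V) ^ k = 1
      rw [det_scalarUnit, ← pow_mul, ← Units.val_pow_eq_pow_val]
      exact congrArg Units.val ((mem_rootsOfUnity _ _).1 c.2)
  set ι' := (QuotientGroup.mk' N').comp ι
  have hle : ψ'.ker ≤ ι'.range := by
    intro q hq
    obtain ⟨x, rfl⟩ := QuotientGroup.mk_surjective q
    obtain ⟨n, c, hc, hx⟩ := hker x hq
    refine ⟨⟨c, (mem_rootsOfUnity _ _).2 hc⟩, ?_⟩
    show ((ι _ : finitePart θ k) : finitePart θ k ⧸ N') = _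
    rw [QuotientGroup.eq, hN', Subgroup.mem_subgroupOf]
    refine ⟨n, ?_⟩
    show ofN θ n = (scalarHom θ c)⁻¹ * (x : intertwinerGroup θ)
    rw [hx, ← scalarHom_comm, inv_mul_cancel_left]
  have hdvd : Nat.card ψ'.ker ∣ finrank ℂ V * k :=
    (Subgroup.card_dvd_of_le hle).trans ((Subgroup.card_range_dvd ι').trans (by
      rw [Complex.card_rootsOfUnity]))
  obtain ⟨L', hL'⟩ := Subgroup.exists_right_complement'_of_coprime
    (N := ψ'.ker) ((hidx.symm ▸ hco.symm).coprime_dvd_left hdvd)
  set L : Subgroup (intertwinerGroup θ) :=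
    (L'.comap (QuotientGroup.mk' N')).map (finitePart θ k).subtype with hL
  have hmkN : ∀ n : N, ((⟨ofN θ n, hofN n⟩ : finitePart θ k) : finitePart θ k ⧸ N') = 1 := fun n =>
    (QuotientGroup.eq_one_iff _).2 (Subgroup.mem_subgroupOf.2 ⟨n, rfl⟩)
  refine exists_extension_of_complement θ hsurj L (fun n => ?_) ?_ ?_
  · refine ⟨⟨ofN θ n, hofN n⟩, ?_, rfl⟩
    show ((⟨ofN θ n, hofN n⟩ : finitePart θ k) : finitePart θ k ⧸ N') ∈ L'
    rw [hmkN]
    exact L'.one_mem
  · rintro c ⟨x, hx, hxc⟩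
    have hxc : (x : intertwinerGroup θ) = scalarHom θ c := hxc
    have hxk : (x : finitePart θ k ⧸ N') ∈ ψ'.ker := by
      show ψ x = 1
      show ((proj θ (x : intertwinerGroup θ) : G) : G ⧸ N) = 1
      rw [hxc]
      simp [proj_apply, scalarHom]
    have h1 : (x : finitePart θ k ⧸ N') = 1 :=
      Subgroup.disjoint_def.1 hL'.disjoint hxk hx
    obtain ⟨n, hn⟩ := Subgroup.mem_subgroupOf.1 ((QuotientGroup.eq_one_iff x).1 h1)
    have hn1 : n = 1 := Subtype.ext (by
      have := congrArg (proj θ) (hn.trans hxc)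
      simpa [proj_apply, scalarHom, ofN] using this)
    have h2 : scalarHom θ c = 1 := by rw [← hxc, ← hn, hn1, map_one]
    exact scalarUnit_injective ((congrArg (fun w : intertwinerGroup θ => w.1.2) h2).trans
      (map_one (scalarUnit V)).symm)
  · intro g
    obtain ⟨q, hq⟩ := hψ's (g : G ⧸ N)
    have htop : q ∈ ψ'.ker ⊔ L' := hL'.sup_eq_top ▸ Subgroup.mem_top q
    obtain ⟨a, ha, b, hb, rfl⟩ := Subgroup.mem_sup_of_normal_left.1 htop
    obtain ⟨y, rfl⟩ := QuotientGroup.mk_surjective b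
    rw [map_mul, MonoidHom.mem_ker.1 ha, one_mul] at hq
    have hy : (proj θ (y : intertwinerGroup θ))⁻¹ * g ∈ N := QuotientGroup.eq.1 hq
    refine ⟨(y : intertwinerGroup θ) * ofN θ ⟨_, hy⟩, ⟨y * ⟨ofN θ ⟨_, hy⟩, hofN _⟩, ?_, rfl⟩, ?_⟩
    · show ((y * ⟨ofN θ ⟨_, hy⟩, hofN _⟩ : finitePart θ k) : finitePart θ k ⧸ N') ∈ L'
      rw [QuotientGroup.mk_mul, hmkN, mul_one]
      exact hb
    · rw [map_mul]
      show proj θ (y : intertwinerGroup θ) * ((proj θ (y : intertwinerGroup θ))⁻¹ * g) = g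
      rw [mul_inv_cancel_left]

end Existence

section Det

variable {G : Type u} [Group G]

/-- The determinant of an irreducible character. -/
noncomputable def detChar (χ : IrrCharacter G) : G →* ℂ :=
  (LinearMap.det : Module.End ℂ (Fin χ.2.choose → ℂ) →* ℂ).comp χ.2.choose_spec.choose

theorem detChar_eq [Finite G] (χ : IrrCharacter G) {V : Type v} [AddCommGroup V] [Module ℂ V]
    [FiniteDimensional ℂ V] (ρ : Representation ℂ G V) (hρ : ρ.character = χ.1) (g : G) :
    detChar χ g = LinearMap.det (ρ g) := by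
  haveI := χ.2.choose_spec.choose_spec.1
  obtain ⟨L, hL⟩ := exists_linearEquiv_of_character_eq χ.2.choose_spec.choose ρ
    (hρ.trans χ.2.choose_spec.choose_spec.2.symm)
  show LinearMap.det (χ.2.choose_spec.choose g) = _
  rw [show ρ g = (L : (Fin χ.2.choose → ℂ) →ₗ[ℂ] V) ∘ₗ (χ.2.choose_spec.choose g) ∘ₗ L.symm from
    LinearMap.ext fun v => by simp [hL], LinearMap.det_conj]

/-- The determinant commutes with a homomorphism preserving irreducibility. -/
theorem detChar_comp {H : Type v} [Group H] [Finite H] (χ : IrrCharacter G) (f : H →* G)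
    (ψ : IrrCharacter H) (h : ∀ x, ψ.1 x = χ.1 (f x)) (x : H) :
    detChar ψ x = detChar χ (f x) := by
  refine detChar_eq ψ (MonoidHom.comp χ.2.choose_spec.choose f) (funext fun y => ?_) x
  rw [h, ← congrFun χ.2.choose_spec.choose_spec.2 (f y)]
  rfl

theorem detChar_mul_linear [Finite G] (χ : IrrCharacter G) (lam : G →* ℂ) (ψ : IrrCharacter G)
    (h : ∀ g, ψ.1 g = lam g * χ.1 g) (g : G) :
    detChar ψ g = lam g ^ Char.degree χ * detChar χ g := by
  set σ := χ.2.choose_spec.choose
  let τ : Representation ℂ G (Fin χ.2.choose → ℂ) :=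
    { toFun := fun x => lam x • σ x
      map_one' := by simp
      map_mul' := fun a b => by
        rw [map_mul, map_mul, smul_mul_assoc, mul_smul_comm, smul_smul] }
  have hτ : τ.character = ψ.1 := funext fun x => by
    rw [h, ← congrFun χ.2.choose_spec.choose_spec.2 x]
    simp [Representation.character, τ, σ]
  have hd : Char.degree χ = χ.2.choose := by
    have h1 := Char.apply_one_eq_degree χ
    rw [← congrFun χ.2.choose_spec.choose_spec.2 1, Representation.char_one,
      Module.finrank_fin_fun] at h1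
    exact_mod_cast h1.symm
  rw [detChar_eq ψ τ hτ g]
  show LinearMap.det (lam g • σ g) = _
  rw [LinearMap.det_smul, Module.finrank_fin_fun, hd]
  rfl

theorem detChar_pow_card [Finite G] (χ : IrrCharacter G) (g : G) :
    detChar χ g ^ Nat.card G = 1 := by
  rw [← map_pow, pow_card_eq_one', map_one]

end Det

section Canonical

variable {G : Type u} [Group G] [Fintype G] {N : Subgroup G} [hN : N.Normal] [Fintype N]

theorem linear_root_unique {A : Type w} [Group A] [Finite A] {m : ℕ} (hm : Nat.Coprime (Nat.card A) m)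
    (f : A →* ℂ) (h : ∀ a, f a ^ m = 1) : f = 1 := by
  refine MonoidHom.ext fun a => ?_
  obtain ⟨j, hj⟩ := exists_pow_eq_self_of_coprime (x := a) (n := m)
    (hm.symm.coprime_dvd_right (orderOf_dvd_natCard a))
  rw [← hj, map_pow, map_pow, h, one_pow]
  rfl

/-- The canonical extension of an invariant character in the coprime situation. -/
theorem existsUnique_extension_of_coprime (θ : IrrCharacter N)
    (hinv : ∀ g, Char.conjFun N θ.1 g = θ.1) {k : ℕ} (hk : k ≠ 0)
    (hdet : ∀ n : N, detChar θ n ^ k = 1) (hco : Nat.Coprime N.index (Char.degree θ * k)) :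
    ∃! χ : IrrCharacter G, (∀ n : N, χ.1 n = θ.1 n) ∧ ∀ g, detChar χ g ^ k = 1 := by
  obtain ⟨d, σ, hσ, hσχ⟩ := θ.2
  haveI := hσ
  have hd : Char.degree θ = d := by
    have h1 := Char.apply_one_eq_degree θ
    rw [← hσχ, Representation.char_one, Module.finrank_fin_fun] at h1
    exact_mod_cast h1.symm
  obtain ⟨ρ, hρ⟩ := exists_extension_of_coprime σ (fun g n => by
      rw [hσχ]; exact congrFun (hinv g) n) hk
    (fun n => by rw [← detChar_eq θ σ hσχ]; exact hdet n)
    (by rw [Module.finrank_fin_fun, ← hd]; exact hco)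
  set χ₀ : IrrCharacter G :=
    ⟨ρ.character, Char.isIrrCharacter_character ρ (isIrreducible_of_restrict σ ρ hρ)⟩
  have hχ₀ : ∀ n : N, χ₀.1 n = θ.1 n := fun n => by
    rw [← hσχ]
    show LinearMap.trace ℂ _ (ρ n) = LinearMap.trace ℂ _ (σ n)
    rw [hρ]
  have hdeg : ∀ χ : IrrCharacter G, (∀ n : N, χ.1 n = θ.1 n) → Char.degree χ = Char.degree θ :=
    fun χ hχ => by
      have h1 := Char.apply_one_eq_degree χ
      rw [← Subgroup.coe_one N, hχ, Char.apply_one_eq_degree] at h1
      exact_mod_cast h1.symm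
  have hdetN : ∀ χ : IrrCharacter G, (∀ n : N, χ.1 n = θ.1 n) → ∀ n : N, detChar χ n ^ k = 1 :=
    fun χ hχ n => by
      rw [show detChar χ (n : G) = detChar θ n from
        (detChar_comp χ N.subtype θ (fun x => (hχ x).symm) n).symm]
      exact hdet n
  -- twist to fix the determinant
  set m := Char.degree θ * k
  haveI : Finite (G ⧸ N) := inferInstance
  have hcard : Nat.card (G ⧸ N) = N.index := (Subgroup.index_eq_card N).symm
  set μ : G ⧸ N →* ℂ := QuotientGroup.lift N ((powMonoidHom k).comp (detChar χ₀))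
    (fun n hn => hdetN χ₀ hχ₀ ⟨n, hn⟩) with hμ
  have hμpow : ∀ q, μ q ^ N.index = 1 := fun q => by
    rw [← map_pow, ← hcard, pow_card_eq_one', map_one]
  obtain ⟨j, hj⟩ : ∃ j : ℕ, ∀ z : ℂ, z ^ N.index = 1 → (z ^ j) ^ m = z := by
    rcases Nat.lt_or_ge 1 N.index with h | h
    · obtain ⟨j, -, hj⟩ := Nat.exists_mul_mod_eq_one_of_coprime hco.symm h
      refine ⟨j, fun z hz => ?_⟩
      rw [← pow_mul, mul_comm j, ← Nat.mod_add_div (m * j) N.index, hj, pow_add, pow_one, pow_mul,
        hz, one_pow, mul_one]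
    · have h1 : N.index = 1 :=
        le_antisymm h (Nat.pos_of_ne_zero Subgroup.index_ne_zero_of_finite)
      refine ⟨0, fun z hz => ?_⟩
      rw [h1, pow_one] at hz
      rw [pow_zero, one_pow, hz]
  let lam : G →* ℂ := (QuotientGroup.lift N
    ({ toFun := fun g => μ ((g : G ⧸ N)⁻¹) ^ j
       map_one' := by simp
       map_mul' := fun a b => by
        rw [QuotientGroup.mk_mul, mul_inv_rev, map_mul, mul_pow, mul_comm] } : G →* ℂ)
    fun n hn => by
      show μ ((n : G ⧸ N)⁻¹) ^ j = 1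
      rw [(QuotientGroup.eq_one_iff n).2 hn, inv_one, map_one, one_pow]).comp (QuotientGroup.mk' N)
  have hlamN : ∀ n : N, lam n = 1 := fun n => by
    show μ (((n : G) : G ⧸ N)⁻¹) ^ j = 1
    rw [(QuotientGroup.eq_one_iff (n : G)).2 n.2, inv_one, map_one, one_pow]
  set χ : IrrCharacter G := ⟨⇑lam * χ₀.1, Char.IsIrrCharacter.mul_linear χ₀.2 lam⟩ with hχdef
  have hχN : ∀ n : N, χ.1 n = θ.1 n := fun n => by
    show lam n * χ₀.1 n = θ.1 n
    rw [hlamN, one_mul, hχ₀]
  have hχdet : ∀ g, detChar χ g ^ k = 1 := fun g => by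
    rw [detChar_mul_linear χ₀ lam χ (fun x => rfl), hdeg χ₀ hχ₀, mul_pow, ← pow_mul]
    show (μ ((g : G ⧸ N)⁻¹) ^ j) ^ m * μ (g : G ⧸ N) = 1
    rw [hj _ (hμpow _), ← map_mul, inv_mul_cancel, map_one]
  refine ⟨χ, ⟨hχN, hχdet⟩, fun ψ ⟨hψN, hψdet⟩ => ?_⟩
  -- uniqueness
  haveI := Fintype.ofFinite (G ⧸ N)
  have hres : IsIrrCharacter N (Char.resFun N χ.1) := by
    rw [show Char.resFun N χ.1 = θ.1 from funext hχN]; exact θ.2
  obtain ⟨β, hβ⟩ := Char.exists_mulQuotient_eq N χ hres ψ (by
    rw [show Char.resFun N χ.1 = θ.1 from funext hχN, show Char.resFun N ψ.1 = θ.1 from funext hψN,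
      Char.classInner_irr_self θ.2]
    exact one_ne_zero)
  have hβ1 : β.1 1 = 1 := by
    have h1 := congrFun hβ 1
    rw [Char.mulQuotient_apply, QuotientGroup.mk_one, ← Subgroup.coe_one N, hψN, hχN] at h1
    exact mul_left_cancel₀ (Char.IsIrrCharacter.apply_one_ne_zero θ.2) (h1.trans (mul_one _).symm)
  obtain ⟨f, hf⟩ := Char.IsCharacter.exists_monoidHom (Char.irr_isCharacter β) hβ1
  have hf1 : f = 1 := by
    refine linear_root_unique (m := m) (by rw [hcard]; exact hco) f fun q => ?_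
    obtain ⟨g, rfl⟩ := QuotientGroup.mk_surjective q
    have h1 := hψdet g
    rw [detChar_mul_linear χ (f.comp (QuotientGroup.mk' N)) ψ (fun x => by
      rw [← hβ, Char.mulQuotient_apply, mul_comm, ← hf]; rfl), hdeg χ hχN, mul_pow, hχdet, mul_one,
      ← pow_mul] at h1
    exact h1
  refine Subtype.ext (funext fun g => ?_)
  rw [← hβ, Char.mulQuotient_apply, ← hf, hf1, MonoidHom.one_apply, mul_one]

/-- The case `gcd([G : N], |N|) = 1`. -/
theorem existsUnique_extension_of_coprime_card (θ : IrrCharacter N)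
    (hinv : ∀ g, Char.conjFun N θ.1 g = θ.1) (hco : Nat.Coprime N.index (Nat.card N)) :
    ∃! χ : IrrCharacter G, (∀ n : N, χ.1 n = θ.1 n) ∧ ∀ g, detChar χ g ^ Nat.card N = 1 := by
  refine existsUnique_extension_of_coprime θ hinv Nat.card_pos.ne' (detChar_pow_card θ)
    (Nat.Coprime.mul_right (hco.coprime_dvd_right ?_) hco)
  obtain ⟨d, σ, hσ, hσχ⟩ := θ.2
  haveI := hσ
  have hd : Char.degree θ = finrank ℂ (Fin d → ℂ) := by
    have h1 := Char.apply_one_eq_degree θ
    rw [← hσχ, Representation.char_one] at h1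
    exact_mod_cast h1.symm
  rw [hd]
  exact CharInt.finrank_dvd_natCard σ

end Canonical

end Cfsg.Agent.Clifford
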