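import Mathlib
import Cfsg.Agent.Lib.Clifford.Extension

/-!
# Extensions from complements; cyclic quotients
-/

set_option autoImplicit false
set_option linter.style.haveILetI false

namespace Cfsg.Agent.Clifford

open Representation Module

universe u v

variable {G : Type u} [Group G] {N : Subgroup G} [hN : N.Normal]
variable {V : Type v} [AddCommGroup V] [Module ℂ V] [FiniteDimensional ℂ V]
variable (θ : Representation ℂ N V)

/-- A complement to the scalars containing the copy of `N` gives an extension. -/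
theorem exists_extension_of_complement [θ.IsIrreducible]
    (hsurj : Function.Surjective (proj θ)) (L : Subgroup (intertwinerGroup θ))
    (hN' : ∀ n, ofN θ n ∈ L) (hinter : ∀ c, scalarHom θ c ∈ L → c = 1)
    (hsup : ∀ g : G, ∃ x ∈ L, proj θ x = g) :
    ∃ ρ : Representation ℂ G V, ∀ n : N, ρ n = θ n := by
  have hdec : ∀ z, ∃ c, z * (scalarHom θ c)⁻¹ ∈ L := by
    intro z
    obtain ⟨x, hxL, hx⟩ := hsup (proj θ z)
    obtain ⟨c, hc⟩ := exists_scalar_of_proj_eq θ hx
    exact ⟨c, by rw [hc, mul_inv_cancel_right]; exact hxL⟩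
  choose R hR using hdec
  have huniq : ∀ z c, z * (scalarHom θ c)⁻¹ ∈ L → R z = c := by
    intro z c hc
    have h := L.mul_mem (L.inv_mem (hR z)) hc
    rw [mul_inv_rev, inv_inv, mul_assoc, inv_mul_cancel_left, ← map_inv, ← map_mul] at h
    exact eq_of_mul_inv_eq_one (hinter _ h)
  refine exists_extension_of_retraction θ hsurj
    { toFun := R, map_one' := huniq 1 1 (by simp), map_mul' := fun y z => huniq _ _ ?_ }
    ⟨fun c => huniq _ c (by simp), fun n => huniq _ 1 (by simpa using hN' n)⟩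
  have h := L.mul_mem (hR y) (hR z)
  convert h using 1
  rw [map_mul, mul_inv_rev, ← map_inv, ← map_inv, mul_assoc, mul_assoc, ← mul_assoc z,
    ← scalarHom_comm θ (R y)⁻¹ (z * scalarHom θ (R z)⁻¹)]

/-- An invariant irreducible representation extends across a cyclic quotient. -/
theorem exists_extension_of_cyclic [Finite G] [θ.IsIrreducible]
    (hinv : ∀ (g : G) (n : N), θ.character (MulAut.conjNormal g n) = θ.character n)
    [hc : IsCyclic (G ⧸ N)] :
    ∃ ρ : Representation ℂ G V, ∀ n : N, ρ n = θ n := by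
  have hsurj := proj_surjective θ hinv
  obtain ⟨gen, hgen⟩ := IsCyclic.exists_generator (α := G ⧸ N)
  obtain ⟨g, rfl⟩ := QuotientGroup.mk_surjective gen
  set m := orderOf (g : G ⧸ N)
  have hm : 0 < m := orderOf_pos _
  have hgm : g ^ m ∈ N := by
    rw [← QuotientGroup.eq_one_iff, QuotientGroup.mk_pow]; exact pow_orderOf_eq_one _
  obtain ⟨y, hy⟩ := hsurj g
  obtain ⟨c, hc'⟩ := exists_scalar_of_proj_eq θ (x := ofN θ ⟨g ^ m, hgm⟩) (y := y ^ m)
    (by rw [map_pow, hy]; rfl)
  obtain ⟨z, hz⟩ := IsAlgClosed.exists_pow_nat_eq (c : ℂ) hm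
  have hz0 : z ≠ 0 := by
    rintro rfl
    exact c.ne_zero (by rw [← hz, zero_pow hm.ne'])
  set b : ℂˣ := Units.mk0 z hz0
  have hbc : b ^ m = c := Units.ext (by simp [b, hz])
  set x := y * scalarHom θ b⁻¹ with hx
  have hxm : x ^ m = ofN θ ⟨g ^ m, hgm⟩ := by
    rw [hx, (show Commute y (scalarHom θ b⁻¹) from (scalarHom_comm θ _ y).symm).mul_pow, hc',
      ← map_pow, inv_pow, hbc, mul_assoc, ← map_mul, mul_inv_cancel, map_one, mul_one]
  have hxg : proj θ x = g := by
    rw [hx, map_mul, hy]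
    simp [proj_apply, scalarHom]
  let L : Subgroup (intertwinerGroup θ) :=
    { carrier := {w | ∃ (k : ℤ) (n : N), w = x ^ k * ofN θ n}
      one_mem' := ⟨0, 1, by simp⟩
      mul_mem' := by
        rintro a b ⟨k, n, rfl⟩ ⟨l, n', rfl⟩
        refine ⟨k + l, MulAut.conjNormal (proj θ (x ^ l))⁻¹ n * n', ?_⟩
        rw [map_mul, ← map_inv, ← conj_ofN, zpow_add]
        group
      inv_mem' := by
        rintro a ⟨k, n, rfl⟩
        refine ⟨-k, MulAut.conjNormal (proj θ (x ^ k)) n⁻¹, ?_⟩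
        rw [← conj_ofN, map_inv]
        group }
  refine exists_extension_of_complement θ hsurj L (fun n => ⟨0, n, by simp⟩) ?_ ?_
  · rintro d ⟨k, n, hk⟩
    have hp := congrArg (proj θ) hk
    rw [map_mul, map_zpow, hxg] at hp
    have hp' : g ^ k * (n : G) = 1 := hp.symm
    have hk0 : (g : G ⧸ N) ^ k = 1 := by
      rw [← QuotientGroup.mk_zpow, QuotientGroup.eq_one_iff, eq_inv_of_mul_eq_one_left hp']
      exact N.inv_mem n.2
    obtain ⟨j, rfl⟩ := orderOf_dvd_iff_zpow_eq_one.2 hk0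
    rw [zpow_mul, zpow_natCast, hxm, ← map_zpow, ← map_mul] at hk
    have hn : (⟨g ^ m, hgm⟩ : N) ^ j * n = 1 := Subtype.ext (by
      simpa [zpow_mul] using hp')
    rw [hn, map_one] at hk
    haveI : Nontrivial V := Char.nontrivial_of_isIrreducible θ
    exact scalarUnit_injective ((congrArg (fun w : intertwinerGroup θ => w.1.2) hk).trans
      (map_one (scalarUnit V)).symm)
  · intro h
    obtain ⟨k, hk⟩ := hgen (h : G ⧸ N)
    have hk' : (g : G ⧸ N) ^ k = (h : G ⧸ N) := hk
    rw [← QuotientGroup.mk_zpow, QuotientGroup.eq] at hk'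
    refine ⟨x ^ k * ofN θ ⟨(g ^ k)⁻¹ * h, hk'⟩, ⟨k, _, rfl⟩, ?_⟩
    rw [map_mul, map_zpow, hxg]
    show g ^ k * ((g ^ k)⁻¹ * h) = h
    rw [mul_inv_cancel_left]

end Cfsg.Agent.Clifford
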