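import Cfsg.Agent.Lib.Char.Gallagher
import Cfsg.Agent.Lib.Char.Clifford
import Cfsg.Agent.Lib.Char.Generalized
import Cfsg.Agent.Lib.Char.Brauer
import Cfsg.Agent.Lib.Clifford.Extension
import Mathlib.GroupTheory.Solvable

/-!
# Gluing canonical extensions

`θ` is an irreducible character of `N ⊴ G` and `C H f` a property of functions on subgroups above
`N`, which on every subgroup singles out at most one extension of `θ`, passes to subgroups, is
preserved by conjugation and can be extended across normal subgroups of prime index. Then `θ` has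
an extension to `G` having the property on every subgroup `N⟨g⟩`.
-/

set_option autoImplicit false
set_option linter.style.haveILetI false
set_option linter.unusedSectionVars false

namespace Cfsg.Agent.Clifford

open Cfsg Cfsg.Agent.Char
open scoped Classical ComplexConjugate

universe u

variable {G : Type u} [Group G] [Fintype G] {N : Subgroup G} [N.Normal] [Fintype N]

/-- A character whose restriction to a subgroup is irreducible is irreducible. -/
theorem isIrrCharacter_of_restrict {H : Type u} [Group H] [Finite H] {K : Type u} [Group K]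
    [Finite K] (i : K →* H) {f : H → ℂ} (hf : IsCharacter H f)
    (h : IsIrrCharacter K (fun k => f (i k))) : IsIrrCharacter H f := by
  haveI := Fintype.ofFinite K
  obtain ⟨n, ρ, rfl⟩ := hf
  let σ : Representation ℂ K (Fin n → ℂ) := ρ.comp i
  haveI hσ : σ.IsIrreducible := by
    refine isIrreducible_of_classInner_eq_one σ ?_
    exact classInner_irr_self (χ := fun k => ρ.character (i k)) h
  have hnt : Nontrivial (Fin n → ℂ) := Char.nontrivial_of_isIrreducible σ
  refine ⟨n, ρ, ?_, rfl⟩
  refine { exists_pair_ne := ⟨⊥, ⊤, fun hh => ?_⟩, eq_bot_or_eq_top := fun S => ?_ }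
  · exact bot_ne_top (α := Submodule ℂ (Fin n → ℂ)) (congrArg Subrepresentation.toSubmodule hh)
  · let S' : Subrepresentation σ :=
      ⟨S.toSubmodule, fun k v hv => S.apply_mem_toSubmodule (i k) hv⟩
    rcases eq_bot_or_eq_top S' with h' | h'
    · exact Or.inl (Subrepresentation.toSubmodule_injective
        (congrArg (fun T : Subrepresentation σ => T.toSubmodule) h' :))
    · exact Or.inr (Subrepresentation.toSubmodule_injective
        (congrArg (fun T : Subrepresentation σ => T.toSubmodule) h' :))

/-- A nontrivial finite solvable group has a normal subgroup of prime index. -/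
theorem exists_normal_prime_index {E : Type*} [Group E] [Finite E] [hs : Group.IsSolvable E]
    [Nontrivial E] : ∃ K : Subgroup E, K.Normal ∧ K.index.Prime := by
  have hne : commutator E ≠ ⊤ := (Group.IsSolvable.commutator_lt_top_of_nontrivial E).ne
  obtain ⟨K, hK, hle⟩ := (eq_top_or_exists_le_coatom (commutator E)).resolve_left hne
  haveI hn : K.Normal := Subgroup.Normal.of_commutator_le E hle
  haveI hnt : Nontrivial (E ⧸ K) := QuotientGroup.nontrivial_iff.2 hK.1
  haveI : IsSimpleGroup (E ⧸ K) := ⟨fun L _ => by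
    rcases eq_or_lt_of_le ((QuotientGroup.ker_mk' K).ge.trans (Subgroup.comap_mono (bot_le (a := L))))
      with h | h
    · left
      rw [← Subgroup.map_comap_eq_self_of_surjective (QuotientGroup.mk'_surjective K) L, ← h]
      exact QuotientGroup.map_mk'_self K
    · right
      rw [← Subgroup.map_comap_eq_self_of_surjective (QuotientGroup.mk'_surjective K) L,
        hK.2 _ h, Subgroup.map_top_of_surjective _ (QuotientGroup.mk'_surjective K)]⟩
  haveI : IsMulCommutative (E ⧸ K) := ⟨⟨fun a b => by
    obtain ⟨a, rfl⟩ := QuotientGroup.mk_surjective a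
    obtain ⟨b, rfl⟩ := QuotientGroup.mk_surjective b
    rw [← commutatorElement_eq_one_iff_mul_comm, ← QuotientGroup.mk'_apply,
      ← QuotientGroup.mk'_apply, ← map_commutatorElement, QuotientGroup.mk'_apply,
      QuotientGroup.eq_one_iff]
    exact hle (Subgroup.commutator_mem_commutator (Subgroup.mem_top a) (Subgroup.mem_top b))⟩⟩
  letI : CommGroup (E ⧸ K) :=
    { (inferInstance : Group (E ⧸ K)) with mul_comm := mul_comm' }
  exact ⟨K, hn, by rw [Subgroup.index_eq_card]; exact IsSimpleGroup.prime_card⟩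

variable (θ : IrrCharacter N) (C : ∀ H : Subgroup G, (H → ℂ) → Prop)

/-- An irreducible extension of `θ` to `H` with the property `C`. -/
def CExt (H : Subgroup G) (f : H → ℂ) : Prop :=
  IsIrrCharacter H f ∧ (∀ (x : H) (hx : (x : G) ∈ N), f x = θ.1 ⟨x, hx⟩) ∧ C H f

/-- The hypotheses on the property of being a canonical extension. -/
structure Canonical : Prop where
  base : C N θ.1
  uniq : ∀ H : Subgroup G, N ≤ H → ∀ f f' : H → ℂ, CExt θ C H f → CExt θ C H f' → f = f'
  restrict : ∀ (H' H : Subgroup G) (h : H' ≤ H), N ≤ H' → ∀ f : H → ℂ, CExt θ C H f →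
    C H' (fun x => f (Subgroup.inclusion h x))
  conjugate : ∀ (a : G) (H' H : Subgroup G) (h : ∀ x : G, x ∈ H' ↔ a * x * a⁻¹ ∈ H), N ≤ H' →
    ∀ f : H → ℂ, CExt θ C H f → C H' (fun x => f ⟨a * x * a⁻¹, (h x).1 x.2⟩)
  step : ∀ (M H : Subgroup G), N ≤ M → M ≤ H → (M.subgroupOf H).Normal →
    (M.relIndex H).Prime → ∀ f : M → ℂ, CExt θ C M f →
    ∃ f' : H → ℂ, IsIrrCharacter H f' ∧ C H f' ∧
      ∀ (x : H) (hx : (x : G) ∈ M), f' x = f ⟨x, hx⟩

variable {θ C}

theorem CExt.restrict (hC : Canonical θ C) {H' H : Subgroup G} (h : H' ≤ H) (hN : N ≤ H')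
    {f : H → ℂ} (hf : CExt θ C H f) : CExt θ C H' (fun x => f (Subgroup.inclusion h x)) := by
  refine ⟨isIrrCharacter_of_restrict (Subgroup.inclusion hN)
    (IsCharacter.comp (IsIrrCharacter.isCharacter hf.1) (Subgroup.inclusion h)) ?_,
    fun x hx => hf.2.1 _ hx, hC.restrict H' H h hN f hf⟩
  convert θ.2 using 1
  exact funext fun n => hf.2.1 _ n.2

theorem exists_cExt_sup (hC : Canonical θ C) :
    ∀ E : Subgroup G, Group.IsSolvable E → ∃ f, CExt θ C (N ⊔ E) f := by
  suffices H : ∀ (n : ℕ) (E : Subgroup G), Nat.card E ≤ n → Group.IsSolvable E →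
      ∃ f, CExt θ C (N ⊔ E) f from fun E hE => H _ E le_rfl hE
  intro n
  induction n with
  | zero => exact fun E hE => absurd hE (not_le.2 Nat.card_pos)
  | succ n ih =>
    intro E hcard hE
    rcases subsingleton_or_nontrivial E with hsub | hnt
    · have hbot : E = ⊥ := Subgroup.eq_bot_of_subsingleton E
      rw [hbot, sup_bot_eq]
      exact ⟨θ.1, θ.2, fun x hx => rfl, hC.base⟩
    haveI := hE
    obtain ⟨K, hKn, hKp⟩ := exists_normal_prime_index (E := E)
    set E₀ := K.map E.subtype with hE₀
    have hcard₀ : Nat.card E₀ ≤ n := by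
      rw [hE₀, Subgroup.card_map_of_injective E.subtype_injective]
      have h := K.card_mul_index
      have h1 : Nat.card K * 2 ≤ Nat.card K * K.index := Nat.mul_le_mul_left _ hKp.two_le
      have := Nat.card_pos (α := K)
      omega
    have hE₀s : Group.IsSolvable E₀ :=
      Group.isSolvable_of_isSolvable_injective (f := Subgroup.inclusion (Subgroup.map_subtype_le K))
        (Subgroup.inclusion_injective _)
    obtain ⟨f, hf⟩ := ih E₀ hcard₀ hE₀s
    have hle : N ⊔ E₀ ≤ N ⊔ E := sup_le_sup_left (Subgroup.map_subtype_le K) N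
    by_cases heq : N ⊔ E₀ = N ⊔ E
    · rw [← heq]; exact ⟨f, hf⟩
    have hnorm : E ≤ Subgroup.normalizer ((N ⊔ E₀ : Subgroup G) : Set G) := by
      intro e he
      rw [Subgroup.mem_normalizer_iff_map_conj_eq, Subgroup.map_sup]
      congr 1
      · exact Subgroup.mem_normalizer_iff_map_conj_eq.1
          (Subgroup.normalizer_eq_top N ▸ Subgroup.mem_top e)
      · rw [hE₀, Subgroup.map_map]
        have hK' : K.map (MulAut.conj (⟨e, he⟩ : E)).toMonoidHom = K :=
          Subgroup.mem_normalizer_iff_map_conj_eq.1 (by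
            rw [Subgroup.normalizer_eq_top]; exact Subgroup.mem_top _)
        conv_rhs => rw [← hK', Subgroup.map_map]
        rfl
    have hMn : ((N ⊔ E₀).subgroupOf (N ⊔ E)).Normal :=
      Subgroup.normal_subgroupOf_of_le_normalizer
        (sup_le ((le_sup_left).trans Subgroup.le_normalizer) hnorm)
    have hidx : ((N ⊔ E₀).relIndex (N ⊔ E)).Prime := by
      have h1 : (N ⊔ E₀).relIndex (N ⊔ E) ∣ (N ⊔ E₀).relIndex E := by
          show ((N ⊔ E₀).subgroupOf (N ⊔ E)).index ∣ ((N ⊔ E₀).subgroupOf E).index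
          haveI := hMn
          haveI : ((N ⊔ E₀).subgroupOf E).Normal := Subgroup.normal_subgroupOf_of_le_normalizer hnorm
          rw [Subgroup.index_eq_card, Subgroup.index_eq_card]
          refine Subgroup.card_dvd_of_surjective
            (QuotientGroup.map ((N ⊔ E₀).subgroupOf E) _ (Subgroup.inclusion le_sup_right)
              fun x hx => hx) ?_
          intro q
          obtain ⟨⟨x, hx⟩, rfl⟩ := QuotientGroup.mk_surjective q
          obtain ⟨a, ha, b, hb, rfl⟩ := Subgroup.mem_sup_of_normal_left.1 hx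
          refine ⟨QuotientGroup.mk ⟨b, hb⟩, QuotientGroup.eq.2 ?_⟩
          show (b : G)⁻¹ * (a * b) ∈ N ⊔ E₀
          exact Subgroup.mem_sup_left (by
            simpa [mul_assoc] using ‹N.Normal›.conj_mem a ha b⁻¹)
      have h2 : (N ⊔ E₀).relIndex E ∣ E₀.relIndex E := Subgroup.relIndex_dvd_of_le_left _ le_sup_right
      have h3 : E₀.relIndex E = K.index := by
        show ((K.map E.subtype).subgroupOf E).index = K.index
        rw [Subgroup.subgroupOf, Subgroup.comap_map_eq_self_of_injective E.subtype_injective]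
      rw [h3] at h2
      rcases (Nat.dvd_prime hKp).1 (h1.trans h2) with h2 | h2
      · exact absurd (le_antisymm hle (Subgroup.relIndex_eq_one.1 h2)) heq
      · rwa [h2]
    obtain ⟨f', hf'irr, hf'C, hf'ext⟩ := hC.step _ _ le_sup_left hle hMn hidx f hf
    exact ⟨f', hf'irr, fun x hx => by
      rw [hf'ext x (Subgroup.mem_sup_left hx), hf.2.1 _ hx], hf'C⟩

/-- The glued extension. -/
theorem exists_glued (hC : Canonical θ C) :
    ∃ χ : IrrCharacter G, (∀ n : N, χ.1 n = θ.1 n) ∧
      ∀ g : G, C (N ⊔ Subgroup.zpowers g) (fun x => χ.1 x) := by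
  have hcyc : ∀ g : G, ∃ f, CExt θ C (N ⊔ Subgroup.zpowers g) f := fun g =>
    exists_cExt_sup hC _ inferInstance
  choose F hF using hcyc
  let Θ : G → ℂ := fun g => F g ⟨g, Subgroup.mem_sup_right (Subgroup.mem_zpowers g)⟩
  have hkey : ∀ (H : Subgroup G) (f : H → ℂ), N ≤ H → CExt θ C H f → ∀ x : H, Θ x = f x := by
    intro H f hNH hf x
    have hle : N ⊔ Subgroup.zpowers (x : G) ≤ H := sup_le hNH (Subgroup.zpowers_le.2 x.2)
    exact congrFun (hC.uniq _ le_sup_left _ _ (hF x) (hf.restrict hC hle le_sup_left))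
      ⟨x, Subgroup.mem_sup_right (Subgroup.mem_zpowers _)⟩
  have hN : ∀ n : N, Θ n = θ.1 n := fun n => (hF n).2.1 _ n.2
  have hinv : ∀ a : G, conjFun N θ.1 a = θ.1 := by
    intro a
    funext n
    have hcl := IsCharacter.isClassFunction (IsIrrCharacter.isCharacter (hF a).1)
    have h1 := (hF a).2.1 ⟨n, Subgroup.mem_sup_left n.2⟩ n.2
    have h2 := (hF a).2.1 ⟨a * n * a⁻¹, Subgroup.mem_sup_left (‹N.Normal›.conj_mem n n.2 a)⟩
      (‹N.Normal›.conj_mem n n.2 a)
    have h3 := hcl ⟨(n : G), Subgroup.mem_sup_left n.2⟩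
      ⟨a, Subgroup.mem_sup_right (Subgroup.mem_zpowers a)⟩
    rw [h1] at h3
    rw [← h3]
    exact h2.symm
  have hcl : IsClassFunction G Θ := by
    intro g a
    set H := N ⊔ Subgroup.zpowers (a * g * a⁻¹) with hH
    have hmap : (N ⊔ Subgroup.zpowers g).map (MulAut.conj a).toMonoidHom = H := by
      rw [Subgroup.map_sup, MonoidHom.map_zpowers]
      congr 1
      exact Subgroup.mem_normalizer_iff_map_conj_eq.1
        (Subgroup.normalizer_eq_top N ▸ Subgroup.mem_top a)
    have hiff : ∀ x : G, x ∈ N ⊔ Subgroup.zpowers g ↔ a * x * a⁻¹ ∈ H := by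
      intro x
      rw [← hmap, Subgroup.mem_map]
      refine ⟨fun hx => ⟨x, hx, rfl⟩, ?_⟩
      rintro ⟨y, hy, he⟩
      obtain rfl : y = x := by simpa using he
      exact hy
    set i : ↥(N ⊔ Subgroup.zpowers g) →* H :=
      { toFun := fun x => ⟨a * x * a⁻¹, (hiff x).1 x.2⟩
        map_one' := Subtype.ext (by simp)
        map_mul' := fun x y => Subtype.ext (by simp [mul_assoc]) } with hi
    have hfi : CExt θ C (N ⊔ Subgroup.zpowers g) (fun x => F (a * g * a⁻¹) (i x)) := by
      refine ⟨IsIrrCharacter.comp_surjective (hF _).1 i ?_, fun x hx => ?_,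
        hC.conjugate a _ H hiff le_sup_left _ (hF _)⟩
      · rintro ⟨y, hy⟩
        exact ⟨⟨a⁻¹ * y * a, (hiff _).2 (by rwa [show a * (a⁻¹ * y * a) * a⁻¹ = y by group])⟩,
          Subtype.ext (by simp [hi, mul_assoc])⟩
      · show F (a * g * a⁻¹) (i x) = _
        rw [(hF _).2.1 (i x) (‹N.Normal›.conj_mem _ hx a)]
        exact congrFun (hinv a) ⟨x, hx⟩
    exact (congrFun (hC.uniq _ le_sup_left _ _ (hF g) hfi)
      ⟨g, Subgroup.mem_sup_right (Subgroup.mem_zpowers g)⟩).symm
  have hgen : IsGeneralizedCharacter G Θ := by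
    refine isGeneralizedCharacter_of_elementary hcl fun E q hq hel => ?_
    haveI := IsElementary.isNilpotent hq hel
    obtain ⟨f, hf⟩ := exists_cExt_sup hC E inferInstance
    rw [show (fun e : E => Θ e) = fun e : E => f (Subgroup.inclusion le_sup_right e) from
      funext fun e => hkey _ f le_sup_left hf (Subgroup.inclusion le_sup_right e)]
    exact IsCharacter.isGeneralized (IsCharacter.comp (IsIrrCharacter.isCharacter hf.1) _)
  have hone : classInner Θ Θ = 1 := by
    have hcoset : ∀ g : G, ∑ n : N, Θ (g * n) * conj (Θ (g * n)) = (Nat.card N : ℂ) := by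
      intro g
      set H := N ⊔ Subgroup.zpowers g with hH
      set χ : IrrCharacter H := ⟨F g, (hF g).1⟩
      haveI : (N.subgroupOf H).Normal := Subgroup.normal_subgroupOf
      have hres : IsIrrCharacter (N.subgroupOf H) (resFun (N.subgroupOf H) χ.1) := by
        convert IsIrrCharacter.comp_surjective θ.2
          (Subgroup.subgroupOfEquivOfLe (le_sup_left : N ≤ H)).toMonoidHom
          (Subgroup.subgroupOfEquivOfLe _).surjective using 1
        exact funext fun x => (hF g).2.1 _ x.2
      have := sum_coset_mul_conj (N.subgroupOf H) χ hres ⟨g, Subgroup.mem_sup_right (Subgroup.mem_zpowers g)⟩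
      rw [Nat.card_congr (Subgroup.subgroupOfEquivOfLe (le_sup_left : N ≤ H)).toEquiv] at this
      rw [← this]
      refine (Fintype.sum_equiv (Subgroup.subgroupOfEquivOfLe (le_sup_left : N ≤ H)).toEquiv
        _ _ fun x => ?_).symm
      simp only [χ, ← hkey H (F g) le_sup_left (hF g)]
      rfl
    have hsum : (Nat.card N : ℂ) * ∑ g : G, Θ g * conj (Θ g) =
        (Nat.card N : ℂ) * (Nat.card G : ℂ) := by
      calc (Nat.card N : ℂ) * ∑ g : G, Θ g * conj (Θ g)
          = ∑ n : N, ∑ g : G, Θ (g * n) * conj (Θ (g * n)) := by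
            rw [Finset.sum_congr rfl fun (n : N) _ =>
              Fintype.sum_equiv (Equiv.mulRight (n : G)) (fun g => Θ (g * n) * conj (Θ (g * n)))
                (fun g => Θ g * conj (Θ g)) (fun g => rfl),
              Finset.sum_const, Finset.card_univ, nsmul_eq_mul, Nat.card_eq_fintype_card]
        _ = _ := by
            rw [Finset.sum_comm, Finset.sum_congr rfl fun g _ => hcoset g, Finset.sum_const,
              Finset.card_univ, nsmul_eq_mul, Nat.card_eq_fintype_card (α := G), mul_comm]
    rw [classInner, mul_left_cancel₀ Char.card_ne_zero hsum, inv_mul_cancel₀ Char.card_ne_zero]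
  obtain ⟨χ, hχ⟩ := IsGeneralizedCharacter.irr_or_neg_of_norm_one hgen hone
  have h1 : Θ 1 = θ.1 1 := by simpa using hN 1
  have hpos : Θ = χ.1 := by
    rcases hχ with h | h
    · exact h
    · exfalso
      rw [h, Pi.neg_apply, apply_one_eq_degree, apply_one_eq_degree, neg_eq_iff_add_eq_zero] at h1
      have : degree χ + degree θ = 0 := by exact_mod_cast h1
      have := degree_pos χ
      omega
  refine ⟨χ, fun n => hpos ▸ hN n, fun g => ?_⟩
  rw [← hpos, show (fun x : ↥(N ⊔ Subgroup.zpowers g) => Θ x) = F g from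
    funext fun x => hkey _ (F g) le_sup_left (hF g) x]
  exact (hF g).2.2

end Cfsg.Agent.Clifford
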