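import Cfsg.Agent.Lib.Clifford.CoprimeExtension
import Cfsg.Prelude.Def_CharExt

/-!
# Gallagher's extension theorem

An invariant `θ ∈ Irr N` of degree prime to `[G : N]` extends to `G` exactly when `det θ` extends
to a linear character, and then there is exactly one extension with a prescribed determinant.
-/

set_option autoImplicit false
set_option linter.style.haveILetI false
set_option linter.unusedSectionVars false

namespace Cfsg.Agent.Clifford

open Representation Module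

universe u v

section Existence

variable {G : Type u} [Group G] [Finite G] {N : Subgroup G} [hN : N.Normal]
variable {V : Type v} [AddCommGroup V] [Module ℂ V] [FiniteDimensional ℂ V]

/-- A finite supplement of the scalars meeting them in a group of order prime to `[G : N]` gives an
extension. -/
theorem exists_extension_of_supplement (θ : Representation ℂ N V) [θ.IsIrreducible]
    (L₀ : Subgroup (intertwinerGroup θ)) [Finite L₀] (hofN : ∀ n, ofN θ n ∈ L₀)
    (hsur : ∀ g, ∃ x ∈ L₀, proj θ x = g) {m : ℕ} [NeZero m]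
    (hscal : ∀ c : ℂˣ, scalarHom θ c ∈ L₀ → c ^ m = 1) (hco : Nat.Coprime N.index m) :
    ∃ ρ : Representation ℂ G V, ∀ n : N, ρ n = θ n := by
  haveI : Nontrivial V := Char.nontrivial_of_isIrreducible θ
  have hsurj : Function.Surjective (proj θ) := fun g => (hsur g).imp fun x hx => hx.2
  set N' : Subgroup L₀ := (ofN θ).range.subgroupOf L₀ with hN'
  haveI : N'.Normal := ⟨fun x hx y => by
    obtain ⟨n, hn⟩ := Subgroup.mem_subgroupOf.1 hx
    refine Subgroup.mem_subgroupOf.2 ⟨MulAut.conjNormal (proj θ (y : intertwinerGroup θ)) n, ?_⟩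
    rw [← conj_ofN, hn]
    rfl⟩
  set ψ : L₀ →* G ⧸ N := (QuotientGroup.mk' N).comp ((proj θ).comp L₀.subtype) with hψ
  have hψs : Function.Surjective ψ := fun q => by
    obtain ⟨g, rfl⟩ := QuotientGroup.mk_surjective q
    obtain ⟨x, hx, hxg⟩ := hsur g
    exact ⟨⟨x, hx⟩, congrArg (QuotientGroup.mk' N) hxg⟩
  have hψN : ∀ x ∈ N', ψ x = 1 := fun x hx => by
    obtain ⟨n, hn⟩ := Subgroup.mem_subgroupOf.1 hx
    show ((proj θ (x : intertwinerGroup θ) : G) : G ⧸ N) = 1
    rw [← hn, QuotientGroup.eq_one_iff]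
    exact n.2
  set ψ' := QuotientGroup.lift N' ψ hψN with hψ'
  have hψ's : Function.Surjective ψ' := fun q => by
    obtain ⟨x, hx⟩ := hψs q
    exact ⟨(x : L₀ ⧸ N'), hx⟩
  have hidx : ψ'.ker.index = N.index := by
    rw [Subgroup.index_ker, MonoidHom.range_eq_top.2 hψ's, Subgroup.card_top]
    exact (Subgroup.index_eq_card N).symm
  -- elements of the kernel are scalars times `N`
  have hker : ∀ x : L₀, ψ x = 1 → ∃ (n : N) (c : ℂˣ), c ^ m = 1 ∧
      (x : intertwinerGroup θ) = ofN θ n * scalarHom θ c := fun x hx => by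
    have hn : proj θ (x : intertwinerGroup θ) ∈ N := (QuotientGroup.eq_one_iff _).1 hx
    obtain ⟨c, hc⟩ := exists_scalar_of_proj_eq θ (x := ofN θ ⟨_, hn⟩) (y := (x : intertwinerGroup θ))
      rfl
    refine ⟨⟨_, hn⟩, c, hscal c ?_, hc⟩
    have h1 := L₀.mul_mem (L₀.inv_mem (hofN ⟨_, hn⟩)) x.2
    rwa [show scalarHom θ c = (ofN θ ⟨_, hn⟩)⁻¹ * (x : intertwinerGroup θ) from
      eq_inv_mul_iff_mul_eq.2 hc.symm]
  set S : Subgroup (rootsOfUnity m ℂ) :=
    L₀.comap ((scalarHom θ).comp (rootsOfUnity m ℂ).subtype) with hS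
  set ι : S →* L₀ := (((scalarHom θ).comp (rootsOfUnity m ℂ).subtype).comp S.subtype).codRestrict _
    fun c => c.2
  set ι' := (QuotientGroup.mk' N').comp ι
  have hle : ψ'.ker ≤ ι'.range := by
    intro q hq
    obtain ⟨x, rfl⟩ := QuotientGroup.mk_surjective q
    obtain ⟨n, c, hc, hx⟩ := hker x hq
    have hcL : scalarHom θ c ∈ L₀ := by
      rw [show scalarHom θ c = (ofN θ n)⁻¹ * (x : intertwinerGroup θ) from
        eq_inv_mul_iff_mul_eq.2 hx.symm]
      exact L₀.mul_mem (L₀.inv_mem (hofN n)) x.2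
    refine ⟨⟨⟨c, (mem_rootsOfUnity _ _).2 hc⟩, hcL⟩, ?_⟩
    show ((ι _ : L₀) : L₀ ⧸ N') = _
    rw [QuotientGroup.eq, hN', Subgroup.mem_subgroupOf]
    refine ⟨n, ?_⟩
    show ofN θ n = (scalarHom θ c)⁻¹ * (x : intertwinerGroup θ)
    rw [hx, ← scalarHom_comm, inv_mul_cancel_left]
  have hdvd : Nat.card ψ'.ker ∣ m :=
    (Subgroup.card_dvd_of_le hle).trans ((Subgroup.card_range_dvd ι').trans
      ((Subgroup.card_subgroup_dvd_card S).trans (Complex.card_rootsOfUnity m).dvd))
  obtain ⟨L', hL'⟩ := Subgroup.exists_right_complement'_of_coprime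
    (N := ψ'.ker) ((hidx.symm ▸ hco.symm).coprime_dvd_left hdvd)
  set L : Subgroup (intertwinerGroup θ) :=
    (L'.comap (QuotientGroup.mk' N')).map L₀.subtype with hL
  have hmkN : ∀ n : N, ((⟨ofN θ n, hofN n⟩ : L₀) : L₀ ⧸ N') = 1 := fun n =>
    (QuotientGroup.eq_one_iff _).2 (Subgroup.mem_subgroupOf.2 ⟨n, rfl⟩)
  refine exists_extension_of_complement θ hsurj L (fun n => ?_) ?_ ?_
  · refine ⟨⟨ofN θ n, hofN n⟩, ?_, rfl⟩
    show ((⟨ofN θ n, hofN n⟩ : L₀) : L₀ ⧸ N') ∈ L'
    rw [hmkN]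
    exact L'.one_mem
  · rintro c ⟨x, hx, hxc⟩
    have hxc : (x : intertwinerGroup θ) = scalarHom θ c := hxc
    have hxk : (x : L₀ ⧸ N') ∈ ψ'.ker := by
      show ψ x = 1
      show ((proj θ (x : intertwinerGroup θ) : G) : G ⧸ N) = 1
      rw [hxc]
      simp [proj_apply, scalarHom]
    have h1 : (x : L₀ ⧸ N') = 1 :=
      Subgroup.disjoint_def.1 hL'.disjoint hxk hx
    obtain ⟨n, hn⟩ := Subgroup.mem_subgroupOf.1 ((QuotientGroup.eq_one_iff x).1 h1)
    have hn1 : n = 1 := Subtype.ext (by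
      have := congrArg (proj θ) (hn.trans hxc)
      simpa [proj_apply, scalarHom, ofN] using this)
    have h2 : scalarHom θ c = 1 := by rw [← hxc, ← hn, hn1, map_one]
    exact scalarUnit_injective ((congrArg (fun w : intertwinerGroup θ => w.1.2) h2).trans
      (map_one (scalarUnit V)).symm)
  · intro g
    obtain ⟨q, hq⟩ := hψ's (g : G ⧸ N)
    have htop : q ∈ ψ'.ker ⊔ L' := hL'.sup_eq_top ▸ Subgroup.mem_top q
    obtain ⟨a, ha, b, hb, rfl⟩ := Subgroup.mem_sup_of_normal_left.1 htop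
    obtain ⟨y, rfl⟩ := QuotientGroup.mk_surjective b
    rw [map_mul, MonoidHom.mem_ker.1 ha, one_mul] at hq
    have hy : (proj θ (y : intertwinerGroup θ))⁻¹ * g ∈ N := QuotientGroup.eq.1 hq
    refine ⟨(y : intertwinerGroup θ) * ofN θ ⟨_, hy⟩, ⟨y * ⟨ofN θ ⟨_, hy⟩, hofN _⟩, ?_, rfl⟩, ?_⟩
    · show ((y * ⟨ofN θ ⟨_, hy⟩, hofN _⟩ : L₀) : L₀ ⧸ N') ∈ L'
      rw [QuotientGroup.mk_mul, hmkN, mul_one]
      exact hb
    · rw [map_mul]
      show proj θ (y : intertwinerGroup θ) * ((proj θ (y : intertwinerGroup θ))⁻¹ * g) = g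
      rw [mul_inv_cancel_left]

/-- The elements of the intertwiner group whose determinant is `μ` of the projection. -/
noncomputable def detPart (θ : Representation ℂ N V) (μ : G →* ℂ) :
    Subgroup (intertwinerGroup θ) :=
  MonoidHom.eqLocus
    ((LinearMap.det : Module.End ℂ V →* ℂ).comp ((Units.coeHom (Module.End ℂ V)).comp
      ((MonoidHom.snd G _).comp (intertwinerGroup θ).subtype)))
    (μ.comp (proj θ))

theorem mem_detPart {θ : Representation ℂ N V} {μ : G →* ℂ} {x : intertwinerGroup θ} :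
    x ∈ detPart θ μ ↔ LinearMap.det (x.1.2 : Module.End ℂ V) = μ (proj θ x) := Iff.rfl

/-- Gallagher: if `det θ` extends and `θ(1)` is prime to the index then `θ` extends. -/
theorem exists_extension_of_det (θ : Representation ℂ N V) [θ.IsIrreducible]
    (hinv : ∀ (g : G) (n : N), θ.character (MulAut.conjNormal g n) = θ.character n)
    (μ : G →* ℂ) (hdet : ∀ n : N, LinearMap.det (θ n) = μ n)
    (hco : Nat.Coprime N.index (finrank ℂ V)) :
    ∃ ρ : Representation ℂ G V, ∀ n : N, ρ n = θ n := by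
  haveI : Nontrivial V := Char.nontrivial_of_isIrreducible θ
  have hd : 0 < finrank ℂ V := Module.finrank_pos
  haveI : NeZero (finrank ℂ V) := ⟨hd.ne'⟩
  have hle : detPart θ μ ≤ finitePart θ (Nat.card G) := fun x hx => by
    rw [mem_finitePart, mem_detPart.1 hx, ← map_pow, pow_card_eq_one', map_one]
  haveI : Finite (finitePart θ (Nat.card G)) := finite_finitePart θ Nat.card_pos.ne'
  haveI : Finite (detPart θ μ) := Finite.of_injective _ (Subgroup.inclusion_injective hle)
  refine exists_extension_of_supplement θ (detPart θ μ) (fun n => mem_detPart.2 (hdet n))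
    (fun g => ?_) (m := finrank ℂ V) (fun c hc => ?_) hco
  · obtain ⟨x, rfl⟩ := proj_surjective θ hinv g
    set D : ℂ := LinearMap.det (x.1.2 : Module.End ℂ V) with hD
    have hD0 : D ≠ 0 := (Units.map (LinearMap.det : Module.End ℂ V →* ℂ) x.1.2).ne_zero
    obtain ⟨z, hz⟩ := IsAlgClosed.exists_pow_nat_eq (μ (proj θ x) * D⁻¹) hd
    have hμ0 : μ (proj θ x) ≠ 0 := by
      rw [← Units.coe_map μ (Units.mk (proj θ x) (proj θ x)⁻¹ (mul_inv_cancel _) (inv_mul_cancel _))]
      exact Units.ne_zero _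
    have hz0 : z ≠ 0 := by
      rintro rfl
      rw [zero_pow hd.ne'] at hz
      exact mul_ne_zero hμ0 (inv_ne_zero hD0) hz.symm
    refine ⟨x * scalarHom θ (Units.mk0 z hz0), mem_detPart.2 ?_, ?_⟩
    · show LinearMap.det ((x.1.2 * scalarUnit V (Units.mk0 z hz0) : (Module.End ℂ V)ˣ) :
        Module.End ℂ V) = μ (proj θ (x * scalarHom θ _))
      rw [Units.val_mul, map_mul, det_scalarUnit, Units.val_mk0, hz, ← hD, mul_comm (μ _),
        mul_inv_cancel_left₀ hD0, map_mul]
      simp [proj_apply, scalarHom]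
    · rw [map_mul]
      simp [proj_apply, scalarHom]
  · have h1 := mem_detPart.1 hc
    have h2 : LinearMap.det ((scalarUnit V c : (Module.End ℂ V)ˣ) : Module.End ℂ V) = μ (1 : G) := h1
    rw [det_scalarUnit, map_one] at h2
    exact Units.ext (by simpa using h2)

end Existence

section Det

variable {G : Type u} [Group G] [Finite G]

/-- The two forms of the determinantal character agree. -/
theorem detChar_fun_eq (χ : IrrCharacter G) : Cfsg.detChar χ.1 = ⇑(detChar χ) := by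
  have h : IsCharacter G χ.1 := Char.irr_isCharacter χ
  funext g
  rw [Cfsg.detChar, dif_pos h]
  exact (detChar_eq χ _ (Classical.choose_spec (Classical.choose_spec h)) g).symm

theorem detOrder_dvd_iff (χ : IrrCharacter G) {k : ℕ} :
    Cfsg.detOrder χ.1 ∣ k ↔ ∀ g, detChar χ g ^ k = 1 := by
  rw [Cfsg.detOrder, detChar_fun_eq, orderOf_dvd_iff_pow_eq_one, funext_iff]
  rfl

theorem detOrder_dvd_card (χ : IrrCharacter G) : Cfsg.detOrder χ.1 ∣ Nat.card G :=
  (detOrder_dvd_iff χ).2 (detChar_pow_card χ)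

theorem detOrder_pos (χ : IrrCharacter G) : 0 < Cfsg.detOrder χ.1 :=
  Nat.pos_of_ne_zero fun h => Nat.card_pos.ne' (zero_dvd_iff.1 (h ▸ detOrder_dvd_card χ))

end Det

section Uniqueness

variable {G : Type u} [Group G] [Fintype G] {N : Subgroup G} [hN : N.Normal] [Fintype N]

/-- Two extensions differ by a linear character of the quotient. -/
theorem exists_linear_twist (θ : IrrCharacter N) (χ ψ : IrrCharacter G)
    (hχ : ∀ n : N, χ.1 n = θ.1 n) (hψ : ∀ n : N, ψ.1 n = θ.1 n) :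
    ∃ f : G ⧸ N →* ℂ, ∀ g : G, ψ.1 g = f g * χ.1 g := by
  have hres : IsIrrCharacter N (Char.resFun N χ.1) := by
    rw [show Char.resFun N χ.1 = θ.1 from funext hχ]; exact θ.2
  obtain ⟨β, hβ⟩ := Char.exists_mulQuotient_eq N χ hres ψ (by
    rw [show Char.resFun N χ.1 = θ.1 from funext hχ, show Char.resFun N ψ.1 = θ.1 from funext hψ,
      Char.classInner_irr_self θ.2]
    exact one_ne_zero)
  have hβ1 : β.1 1 = 1 := by
    have h1 := congrFun hβ 1
    rw [Char.mulQuotient_apply, QuotientGroup.mk_one, ← Subgroup.coe_one N, hψ, hχ] at h1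
    exact mul_left_cancel₀ (Char.IsIrrCharacter.apply_one_ne_zero θ.2) (h1.trans (mul_one _).symm)
  obtain ⟨f, hf⟩ := Char.IsCharacter.exists_monoidHom (Char.irr_isCharacter β) hβ1
  exact ⟨f, fun g => by rw [← hβ, Char.mulQuotient_apply, hf, mul_comm]⟩

theorem degree_eq_of_extension (θ : IrrCharacter N) (χ : IrrCharacter G)
    (hχ : ∀ n : N, χ.1 n = θ.1 n) : Char.degree χ = Char.degree θ := by
  have h1 := Char.apply_one_eq_degree χ
  rw [← Subgroup.coe_one N, hχ, Char.apply_one_eq_degree] at h1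
  exact_mod_cast h1.symm

theorem detChar_extension (θ : IrrCharacter N) (χ : IrrCharacter G)
    (hχ : ∀ n : N, χ.1 n = θ.1 n) (n : N) : detChar χ (n : G) = detChar θ n :=
  (detChar_comp χ N.subtype θ (fun x => (hχ x).symm) n).symm

/-- Exactly one extension has a prescribed determinant. -/
theorem existsUnique_extension_det (θ : IrrCharacter N) (hco : Nat.Coprime N.index (Char.degree θ))
    (χ₀ : IrrCharacter G) (hχ₀ : ∀ n : N, χ₀.1 n = θ.1 n) (μ : G →* ℂ)
    (hμ : ∀ n : N, μ n = detChar θ n) :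
    ∃! χ : IrrCharacter G, (∀ n : N, χ.1 n = θ.1 n) ∧ detChar χ = μ := by
  have hcard : Nat.card (G ⧸ N) = N.index := (Subgroup.index_eq_card N).symm
  set a := (detChar χ₀).toHomUnits with ha
  set b := μ.toHomUnits with hb
  set δ : G →* ℂˣ := b * a⁻¹ with hδ
  have hδN : ∀ n ∈ N, δ n = 1 := fun n hn => by
    rw [hδ, MonoidHom.mul_apply, MonoidHom.inv_apply, mul_inv_eq_one]
    exact Units.ext ((hμ ⟨n, hn⟩).trans (detChar_extension θ χ₀ hχ₀ ⟨n, hn⟩).symm)
  set δ' : G ⧸ N →* ℂˣ := QuotientGroup.lift N δ hδN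
  obtain ⟨j, hj⟩ : ∃ j : ℕ, ∀ z : ℂˣ, z ^ N.index = 1 → (z ^ j) ^ Char.degree θ = z := by
    rcases Nat.lt_or_ge 1 N.index with h | h
    · obtain ⟨j, -, hj⟩ := Nat.exists_mul_mod_eq_one_of_coprime hco.symm h
      refine ⟨j, fun z hz => ?_⟩
      rw [← pow_mul, mul_comm j, ← Nat.mod_add_div (Char.degree θ * j) N.index, hj, pow_add,
        pow_one, pow_mul, hz, one_pow, mul_one]
    · have h1 : N.index = 1 :=
        le_antisymm h (Nat.pos_of_ne_zero Subgroup.index_ne_zero_of_finite)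
      refine ⟨0, fun z hz => ?_⟩
      rw [h1, pow_one] at hz
      rw [pow_zero, one_pow, hz]
  let lam : G →* ℂ := (Units.coeHom ℂ).comp
    (((powMonoidHom j).comp δ').comp (QuotientGroup.mk' N))
  have hlamd : ∀ g, lam g ^ Char.degree θ = μ g * (detChar χ₀ g)⁻¹ := fun g => by
    have h1 : ((δ' (g : G ⧸ N)) ^ j) ^ Char.degree θ = δ g := hj _ (by
      rw [← map_pow, ← hcard, pow_card_eq_one', map_one])
    show ((((δ' (g : G ⧸ N)) ^ j : ℂˣ)) : ℂ) ^ Char.degree θ = _
    rw [← Units.val_pow_eq_pow_val, h1, hδ, MonoidHom.mul_apply, MonoidHom.inv_apply,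
      Units.val_mul, Units.val_inv_eq_inv_val]
    rfl
  let χ : IrrCharacter G := ⟨⇑lam * χ₀.1, Char.IsIrrCharacter.mul_linear χ₀.2 lam⟩
  have hχN : ∀ n : N, χ.1 n = θ.1 n := fun n => by
    show (((δ' ((n : G) : G ⧸ N)) ^ j : ℂˣ) : ℂ) * χ₀.1 n = θ.1 n
    rw [(QuotientGroup.eq_one_iff (n : G)).2 n.2, map_one, one_pow, Units.val_one, one_mul, hχ₀]
  have hne : ∀ g, detChar χ₀ g ≠ 0 := fun g => (a g).ne_zero
  refine ⟨χ, ⟨hχN, MonoidHom.ext fun g => ?_⟩, fun ψ ⟨hψN, hψdet⟩ => ?_⟩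
  · rw [detChar_mul_linear χ₀ lam χ (fun x => rfl), degree_eq_of_extension θ χ₀ hχ₀, hlamd,
      inv_mul_cancel_right₀ (hne g)]
  · obtain ⟨f, hf⟩ := exists_linear_twist θ χ ψ hχN hψN
    have hf1 : f = 1 := by
      refine linear_root_unique (m := Char.degree θ) (by rw [hcard]; exact hco) f fun q => ?_
      obtain ⟨g, rfl⟩ := QuotientGroup.mk_surjective q
      have h1 := detChar_mul_linear χ (f.comp (QuotientGroup.mk' N)) ψ (fun x => hf x) g
      have h2 : detChar χ g = μ g := by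
        rw [detChar_mul_linear χ₀ lam χ (fun x => rfl), degree_eq_of_extension θ χ₀ hχ₀, hlamd,
          inv_mul_cancel_right₀ (hne g)]
      rw [hψdet, degree_eq_of_extension θ χ hχN, h2] at h1
      have hμ0 : μ g ≠ 0 := (b g).ne_zero
      exact mul_right_cancel₀ hμ0 (h1.symm.trans (one_mul _).symm)
    refine Subtype.ext (funext fun g => ?_)
    rw [hf, hf1, MonoidHom.one_apply, one_mul]

/-- Gallagher's extension theorem for characters. -/
theorem exists_extension_iff_det (θ : IrrCharacter N) (hinv : ∀ g, Char.conjFun N θ.1 g = θ.1)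
    (hco : Nat.Coprime N.index (Char.degree θ)) :
    (∃ χ : IrrCharacter G, ∀ n : N, χ.1 n = θ.1 n) ↔
      ∃ μ : G →* ℂ, ∀ n : N, μ n = detChar θ n := by
  refine ⟨fun ⟨χ, hχ⟩ => ⟨detChar χ, detChar_extension θ χ hχ⟩, fun ⟨μ, hμ⟩ => ?_⟩
  obtain ⟨d, σ, hσ, hσχ⟩ := θ.2
  haveI := hσ
  have hd : Char.degree θ = d := by
    have h1 := Char.apply_one_eq_degree θ
    rw [← hσχ, Representation.char_one, Module.finrank_fin_fun] at h1
    exact_mod_cast h1.symm
  obtain ⟨ρ, hρ⟩ := exists_extension_of_det σ (fun g n => by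
      rw [hσχ]; exact congrFun (hinv g) n) μ
    (fun n => by rw [← detChar_eq θ σ hσχ, hμ])
    (by rw [Module.finrank_fin_fun, ← hd]; exact hco)
  refine ⟨⟨ρ.character, Char.isIrrCharacter_character ρ (isIrreducible_of_restrict σ ρ hρ)⟩,
    fun n => ?_⟩
  rw [← hσχ]
  show LinearMap.trace ℂ _ (ρ n) = LinearMap.trace ℂ _ (σ n)
  rw [hρ]

end Uniqueness

end Cfsg.Agent.Clifford
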