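import Cfsg.Agent.Lib.Clifford.Glue

/-!
# Gluing canonical extensions that exist above nilpotent subgroups

The variant of `exists_glued` where the existence of canonical extensions on `N ⊔ E`, `E`
nilpotent, is given directly.
-/

set_option autoImplicit false
set_option linter.style.haveILetI false
set_option linter.unusedSectionVars false

namespace Cfsg.Agent.Clifford

open Cfsg Cfsg.Agent.Char
open scoped Classical ComplexConjugate

universe u

variable {G : Type u} [Group G] [Fintype G] {N : Subgroup G} [N.Normal] [Fintype N]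
variable {θ : IrrCharacter N} {C : ∀ H : Subgroup G, (H → ℂ) → Prop}

/-- Extensions with the property `C` glue, provided they exist above nilpotent subgroups. -/
theorem exists_glued_of_exists
    (huniq : ∀ H : Subgroup G, N ≤ H → ∀ f f' : H → ℂ, CExt θ C H f → CExt θ C H f' → f = f')
    (hrest : ∀ (H' H : Subgroup G) (h : H' ≤ H), N ≤ H' → ∀ f : H → ℂ, CExt θ C H f →
      C H' (fun x => f (Subgroup.inclusion h x)))
    (hconj : ∀ (a : G) (H' H : Subgroup G) (h : ∀ x : G, x ∈ H' ↔ a * x * a⁻¹ ∈ H), N ≤ H' →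
      ∀ f : H → ℂ, CExt θ C H f → C H' (fun x => f ⟨a * x * a⁻¹, (h x).1 x.2⟩))
    (hex : ∀ E : Subgroup G, Group.IsNilpotent E → ∃ f, CExt θ C (N ⊔ E) f) :
    ∃ χ : IrrCharacter G, (∀ n : N, χ.1 n = θ.1 n) ∧
      ∀ g : G, C (N ⊔ Subgroup.zpowers g) (fun x => χ.1 x) := by
  have hres : ∀ {H' H : Subgroup G} (h : H' ≤ H), N ≤ H' → ∀ {f : H → ℂ}, CExt θ C H f →
      CExt θ C H' (fun x => f (Subgroup.inclusion h x)) := by
    intro H' H h hN f hf
    refine ⟨isIrrCharacter_of_restrict (Subgroup.inclusion hN)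
      (IsCharacter.comp (IsIrrCharacter.isCharacter hf.1) (Subgroup.inclusion h)) ?_,
      fun x hx => hf.2.1 _ hx, hrest H' H h hN f hf⟩
    convert θ.2 using 1
    exact funext fun n => hf.2.1 _ n.2
  have hcyc : ∀ g : G, ∃ f, CExt θ C (N ⊔ Subgroup.zpowers g) f := fun g => by
    letI : CommGroup (Subgroup.zpowers g) := IsCyclic.commGroup
    exact hex _ inferInstance
  choose F hF using hcyc
  let Θ : G → ℂ := fun g => F g ⟨g, Subgroup.mem_sup_right (Subgroup.mem_zpowers g)⟩
  have hkey : ∀ (H : Subgroup G) (f : H → ℂ), N ≤ H → CExt θ C H f → ∀ x : H, Θ x = f x := by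
    intro H f hNH hf x
    have hle : N ⊔ Subgroup.zpowers (x : G) ≤ H := sup_le hNH (Subgroup.zpowers_le.2 x.2)
    exact congrFun (huniq _ le_sup_left _ _ (hF x) (hres hle le_sup_left hf))
      ⟨x, Subgroup.mem_sup_right (Subgroup.mem_zpowers _)⟩
  have hN : ∀ n : N, Θ n = θ.1 n := fun n => (hF n).2.1 _ n.2
  have hinv : ∀ a : G, conjFun N θ.1 a = θ.1 := by
    intro a
    funext n
    have hcl := IsCharacter.isClassFunction (IsIrrCharacter.isCharacter (hF a).1)
    have h1 := (hF a).2.1 ⟨n, Subgroup.mem_sup_left n.2⟩ n.2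
    have h2 := (hF a).2.1 ⟨a * n * a⁻¹, Subgroup.mem_sup_left (‹N.Normal›.conj_mem n n.2 a)⟩
      (‹N.Normal›.conj_mem n n.2 a)
    have h3 := hcl ⟨(n : G), Subgroup.mem_sup_left n.2⟩
      ⟨a, Subgroup.mem_sup_right (Subgroup.mem_zpowers a)⟩
    rw [h1] at h3
    rw [← h3]
    exact h2.symm
  have hcl : IsClassFunction G Θ := by
    intro g a
    set H := N ⊔ Subgroup.zpowers (a * g * a⁻¹) with hH
    have hmap : (N ⊔ Subgroup.zpowers g).map (MulAut.conj a).toMonoidHom = H := by
      rw [Subgroup.map_sup, MonoidHom.map_zpowers]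
      congr 1
      exact Subgroup.mem_normalizer_iff_map_conj_eq.1
        (Subgroup.normalizer_eq_top N ▸ Subgroup.mem_top a)
    have hiff : ∀ x : G, x ∈ N ⊔ Subgroup.zpowers g ↔ a * x * a⁻¹ ∈ H := by
      intro x
      rw [← hmap, Subgroup.mem_map]
      refine ⟨fun hx => ⟨x, hx, rfl⟩, ?_⟩
      rintro ⟨y, hy, he⟩
      obtain rfl : y = x := by simpa using he
      exact hy
    set i : ↥(N ⊔ Subgroup.zpowers g) →* H :=
      { toFun := fun x => ⟨a * x * a⁻¹, (hiff x).1 x.2⟩
        map_one' := Subtype.ext (by simp)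
        map_mul' := fun x y => Subtype.ext (by simp [mul_assoc]) } with hi
    have hfi : CExt θ C (N ⊔ Subgroup.zpowers g) (fun x => F (a * g * a⁻¹) (i x)) := by
      refine ⟨IsIrrCharacter.comp_surjective (hF _).1 i ?_, fun x hx => ?_,
        hconj a _ H hiff le_sup_left _ (hF _)⟩
      · rintro ⟨y, hy⟩
        exact ⟨⟨a⁻¹ * y * a, (hiff _).2 (by rwa [show a * (a⁻¹ * y * a) * a⁻¹ = y by group])⟩,
          Subtype.ext (by simp [hi, mul_assoc])⟩
      · show F (a * g * a⁻¹) (i x) = _
        rw [(hF _).2.1 (i x) (‹N.Normal›.conj_mem _ hx a)]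
        exact congrFun (hinv a) ⟨x, hx⟩
    exact (congrFun (huniq _ le_sup_left _ _ (hF g) hfi)
      ⟨g, Subgroup.mem_sup_right (Subgroup.mem_zpowers g)⟩).symm
  have hgen : IsGeneralizedCharacter G Θ := by
    refine isGeneralizedCharacter_of_elementary hcl fun E q hq hel => ?_
    obtain ⟨f, hf⟩ := hex E (IsElementary.isNilpotent hq hel)
    rw [show (fun e : E => Θ e) = fun e : E => f (Subgroup.inclusion le_sup_right e) from
      funext fun e => hkey _ f le_sup_left hf (Subgroup.inclusion le_sup_right e)]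
    exact IsCharacter.isGeneralized (IsCharacter.comp (IsIrrCharacter.isCharacter hf.1) _)
  have hone : classInner Θ Θ = 1 := by
    have hcoset : ∀ g : G, ∑ n : N, Θ (g * n) * conj (Θ (g * n)) = (Nat.card N : ℂ) := by
      intro g
      set H := N ⊔ Subgroup.zpowers g with hH
      set χ : IrrCharacter H := ⟨F g, (hF g).1⟩
      haveI : (N.subgroupOf H).Normal := Subgroup.normal_subgroupOf
      have hres' : IsIrrCharacter (N.subgroupOf H) (resFun (N.subgroupOf H) χ.1) := by
        convert IsIrrCharacter.comp_surjective θ.2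
          (Subgroup.subgroupOfEquivOfLe (le_sup_left : N ≤ H)).toMonoidHom
          (Subgroup.subgroupOfEquivOfLe _).surjective using 1
        exact funext fun x => (hF g).2.1 _ x.2
      have := sum_coset_mul_conj (N.subgroupOf H) χ hres'
        ⟨g, Subgroup.mem_sup_right (Subgroup.mem_zpowers g)⟩
      rw [Nat.card_congr (Subgroup.subgroupOfEquivOfLe (le_sup_left : N ≤ H)).toEquiv] at this
      rw [← this]
      refine (Fintype.sum_equiv (Subgroup.subgroupOfEquivOfLe (le_sup_left : N ≤ H)).toEquiv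
        _ _ fun x => ?_).symm
      simp only [χ, ← hkey H (F g) le_sup_left (hF g)]
      rfl
    have hsum : (Nat.card N : ℂ) * ∑ g : G, Θ g * conj (Θ g) =
        (Nat.card N : ℂ) * (Nat.card G : ℂ) := by
      calc (Nat.card N : ℂ) * ∑ g : G, Θ g * conj (Θ g)
          = ∑ n : N, ∑ g : G, Θ (g * n) * conj (Θ (g * n)) := by
            rw [Finset.sum_congr rfl fun (n : N) _ =>
              Fintype.sum_equiv (Equiv.mulRight (n : G)) (fun g => Θ (g * n) * conj (Θ (g * n)))
                (fun g => Θ g * conj (Θ g)) (fun g => rfl),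
              Finset.sum_const, Finset.card_univ, nsmul_eq_mul, Nat.card_eq_fintype_card]
        _ = _ := by
            rw [Finset.sum_comm, Finset.sum_congr rfl fun g _ => hcoset g, Finset.sum_const,
              Finset.card_univ, nsmul_eq_mul, Nat.card_eq_fintype_card (α := G), mul_comm]
    rw [classInner, mul_left_cancel₀ Char.card_ne_zero hsum, inv_mul_cancel₀ Char.card_ne_zero]
  obtain ⟨χ, hχ⟩ := IsGeneralizedCharacter.irr_or_neg_of_norm_one hgen hone
  have h1 : Θ 1 = θ.1 1 := by simpa using hN 1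
  have hpos : Θ = χ.1 := by
    rcases hχ with h | h
    · exact h
    · exfalso
      rw [h, Pi.neg_apply, apply_one_eq_degree, apply_one_eq_degree, neg_eq_iff_add_eq_zero] at h1
      have : degree χ + degree θ = 0 := by exact_mod_cast h1
      have := degree_pos χ
      omega
  refine ⟨χ, fun n => hpos ▸ hN n, fun g => ?_⟩
  rw [← hpos, show (fun x : ↥(N ⊔ Subgroup.zpowers g) => Θ x) = F g from
    funext fun x => hkey _ (F g) le_sup_left (hF g) x]
  exact (hF g).2.2

end Cfsg.Agent.Clifford
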