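import Cfsg.Agent.Lib.Char.Brauer
import Cfsg.Agent.Lib.Char.NormalAction
import Cfsg.Agent.Lib.Glauberman.Congr
import Cfsg.Agent.Lib.Transfer.Residual

/-!
# Dade's detection of invariant characters by elementary subgroups

If `G / N` is a `p`-group and `θ ∈ Irr N` is invariant, then some `p`-elementary `E` with `NE = G`
has an invariant `φ ∈ Irr (E ∩ N)` whose multiplicity in `θ` is prime to `p`.
-/

set_option autoImplicit false
set_option linter.style.haveILetI false
set_option linter.unusedSectionVars false

namespace Cfsg.Agent.Clifford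

open Cfsg Cfsg.Agent.Char Cfsg.Agent.Glauberman
open scoped ComplexConjugate

universe u

variable {G : Type u} [Group G] [Fintype G] {N : Subgroup G} [N.Normal]

theorem card_sup_mul_card_subgroupOf (N E : Subgroup G) [N.Normal] :
    Nat.card ↥(N ⊔ E) * Nat.card (N.subgroupOf E) = Nat.card N * Nat.card E := by
  have h1 : Nat.card (N.subgroupOf (N ⊔ E)) * (N.subgroupOf (N ⊔ E)).index = Nat.card ↥(N ⊔ E) :=
    Subgroup.card_mul_index _
  have h2 : Nat.card (N.subgroupOf E) * (N.subgroupOf E).index = Nat.card E :=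
    Subgroup.card_mul_index _
  have h3 : (N.subgroupOf (N ⊔ E)).index = (N.subgroupOf E).index := Subgroup.relIndex_sup_left (K := N) (H := E)
  rw [← h1, ← h2, h3, Nat.card_congr (Subgroup.subgroupOfEquivOfLe (le_sup_left : N ≤ N ⊔ E)).toEquiv]
  ring

/-- Dade's detection theorem. -/
theorem exists_elementary_detection {p : ℕ} (hp : p.Prime) (hind : ∃ k : ℕ, N.index = p ^ k)
    [Fintype N] (θ : IrrCharacter N) (hinv : ∀ g, Char.conjFun N θ.1 g = θ.1) :
    ∃ (E : Subgroup G) (φ : IrrCharacter (N.subgroupOf E)), IsElementary p E ∧ N ⊔ E = ⊤ ∧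
      (∀ e : E, Char.conjFun (N.subgroupOf E) φ.1 e = φ.1) ∧
      ∃ m : ℕ, ¬ p ∣ m ∧ (letI := Fintype.ofFinite (N.subgroupOf E);
        classInner (fun x : N.subgroupOf E => θ.1 ⟨((x : E) : G), Subgroup.mem_subgroupOf.1 x.2⟩)
          φ.1 = (m : ℂ)) := by
  classical
  haveI := Fact.mk hp
  by_contra hcon
  push Not at hcon
  obtain ⟨k, hk⟩ := hind
  obtain ⟨c, hc, hmem⟩ := exists_int_const_mem_elemInd (G := G) hp
  have hθn : ∀ n n' : N, ∀ g : G, (n' : G) = g * (n : G) * g⁻¹ → θ.1 n' = θ.1 n :=
    fun n n' g h => (conjFun_eq_self_iff N θ.1 g).1 (hinv g) n n' h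
  -- every generator gives a multiple of `p`
  have key : ∀ f ∈ elemInd G p, ∃ z : ℤ,
      classInner (fun n : N => f n * θ.1 n) θ.1 = (((p : ℤ) * z : ℤ) : ℂ) := by
    intro f hf
    induction hf using AddSubgroup.closure_induction with
    | zero => exact ⟨0, by simp [classInner]⟩
    | add a b _ _ ha hb =>
      obtain ⟨za, ha⟩ := ha
      obtain ⟨zb, hb⟩ := hb
      refine ⟨za + zb, ?_⟩
      rw [mul_add, Int.cast_add, ← ha, ← hb, ← classInner_add_left]
      exact congrArg (fun F => classInner F θ.1) (funext fun n => add_mul (a n) (b n) (θ.1 n))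
    | neg a _ ha =>
      obtain ⟨za, ha⟩ := ha
      refine ⟨-za, ?_⟩
      rw [mul_neg, Int.cast_neg, ← ha]
      simp [classInner]
    | mem f hf =>
      obtain ⟨E, ψ, hE, hψ, rfl⟩ := hf
      haveI := Fintype.ofFinite (N.subgroupOf E)
      set D := N.subgroupOf E with hD
      let inc : D →* N :=
        MonoidHom.mk' (fun x => ⟨((x : E) : G), Subgroup.mem_subgroupOf.1 x.2⟩) fun _ _ => rfl
      have hθD : IsCharacter D (fun x => θ.1 (inc x)) := IsCharacter.comp (irr_isCharacter θ) inc
      have hψD : IsCharacter D (fun x => ψ (x : E)) := IsCharacter.restrict hψ D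
      obtain ⟨t, ht⟩ := IsCharacter.exists_nat_classInner (IsCharacter.mul hψD hθD) hθD
      -- the value as a multiple of `t`
      have hval : classInner (fun n : N => indFun E ψ n * θ.1 n) θ.1 =
          ((N ⊔ E).index : ℂ) * (t : ℂ) := by
        have hswap : ∀ x : G, ∑ n : N, extendByZero E ψ (x⁻¹ * (n : G) * x) * θ.1 n * conj (θ.1 n) =
            ∑ d : D, ψ (d : E) * θ.1 (inc d) * conj (θ.1 (inc d)) := by
          intro x
          have h1 : ∑ n : N, extendByZero E ψ (x⁻¹ * (n : G) * x) * θ.1 n * conj (θ.1 n) =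
              ∑ n : N, extendByZero E ψ (n : G) * θ.1 n * conj (θ.1 n) := by
            refine Fintype.sum_equiv (MulAut.conjNormal x⁻¹ : MulAut N).toEquiv _ _ fun n => ?_
            show _ = extendByZero E ψ ((MulAut.conjNormal x⁻¹ n : N) : G) *
              θ.1 (MulAut.conjNormal x⁻¹ n) * conj (θ.1 (MulAut.conjNormal x⁻¹ n))
            rw [hθn n (MulAut.conjNormal x⁻¹ n) x⁻¹ (by simp)]
            simp
          rw [h1, ← Finset.sum_subset (Finset.subset_univ
            (Finset.univ.filter fun n : N => (n : G) ∈ E)) fun n _ hn => by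
              rw [extendByZero_of_notMem _ _ fun h => hn (Finset.mem_filter.2 ⟨Finset.mem_univ _, h⟩),
                zero_mul, zero_mul]]
          refine Finset.sum_bij' (fun n hn => (⟨⟨(n : G), (Finset.mem_filter.1 hn).2⟩,
            Subgroup.mem_subgroupOf.2 n.2⟩ : D)) (fun d _ => inc d)
            (fun n hn => Finset.mem_univ _)
            (fun d _ => Finset.mem_filter.2 ⟨Finset.mem_univ _, (d : E).2⟩)
            (fun n _ => rfl) (fun d _ => rfl) fun n hn => ?_
          rw [extendByZero_of_mem _ _ (Finset.mem_filter.1 hn).2]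
          rfl
        have hidx : ((N ⊔ E).index : ℂ) * (Nat.card N * Nat.card E) =
            (Nat.card G : ℂ) * Nat.card D := by
          have h := (N ⊔ E).index_mul_card
          have h' := card_sup_mul_card_subgroupOf N E
          exact_mod_cast (show (N ⊔ E).index * (Nat.card N * Nat.card E) = Nat.card G * Nat.card D by
            rw [← h', ← h]; ring)
        rw [classInner] at ht
        simp only [Pi.mul_apply] at ht
        simp only [classInner, indFun, mul_assoc ((Nat.card E : ℂ)⁻¹), Finset.sum_mul,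
          ← Finset.mul_sum]
        rw [Finset.sum_comm, Finset.sum_congr rfl fun x _ => hswap x, Finset.sum_const,
          Finset.card_univ, nsmul_eq_mul, ← Nat.card_eq_fintype_card, ← ht]
        have hN : (Nat.card N : ℂ) ≠ 0 := card_ne_zero
        have hE' : (Nat.card E : ℂ) ≠ 0 := card_ne_zero
        have hD' : (Nat.card D : ℂ) ≠ 0 := card_ne_zero
        field_simp
        linear_combination (-(∑ d : D, ψ (d : E) * θ.1 (inc d) * conj (θ.1 (inc d)))) * hidx
      suffices hdvd : (p : ℤ) ∣ ((N ⊔ E).index : ℤ) * (t : ℤ) by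
        obtain ⟨z, hz⟩ := hdvd
        refine ⟨z, ?_⟩
        rw [hval, ← hz]
        push_cast
        rfl
      by_cases htop : N ⊔ E = ⊤
      swap
      · refine Dvd.dvd.mul_right (Int.natCast_dvd_natCast.2 ?_) _
        have h1 : (N ⊔ E).index ∣ p ^ k := hk ▸ Subgroup.index_dvd_of_le le_sup_left
        obtain ⟨i, -, hi⟩ := (Nat.dvd_prime_pow hp).1 h1
        rw [hi]
        refine dvd_pow_self p fun h0 => htop ?_
        rwa [h0, pow_zero, Subgroup.index_eq_one] at hi
      refine Dvd.dvd.mul_left (Int.natCast_dvd_natCast.2 ?_) _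
      -- invariant constituents have multiplicity divisible by `p`
      obtain ⟨m, hm, hm'⟩ := IsCharacter.exists_decomp hθD
      choose A hA using fun φ φ' : IrrCharacter D =>
        IsCharacter.exists_nat_classInner (IsCharacter.mul hψD (irr_isCharacter φ)) (irr_isCharacter φ')
      have hmfix : ∀ φ : IrrCharacter D, (∀ e : E, Char.conjFun D φ.1 e = φ.1) → p ∣ m φ := by
        intro φ hφ
        by_contra hnd
        exact hcon E φ hE htop hφ (m φ) hnd (by rw [← hm' φ]; unfold classInner; congr 1; exact Finset.sum_congr (Finset.ext fun _ => by simp) fun x _ => rfl)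
      have hθinv : ∀ e : E, Char.conjFun D (fun x => θ.1 (inc x)) e = fun x => θ.1 (inc x) :=
        fun e => funext fun x => hθn (inc x) (inc (MulAut.conjNormal e x)) (e : G) (by simp [inc])
      have hψinv : ∀ e : E, Char.conjFun D (fun x : D => ψ (x : E)) e = fun x : D => ψ (x : E) :=
        fun e => Char.conjFun_resFun D (IsCharacter.isClassFunction hψ) e
      have hminv : ∀ (φ : IrrCharacter D) (e : E), m (conjChar D φ e) = m φ := fun φ e => by
        have h1 : classInner (Char.conjFun D (fun x => θ.1 (inc x)) e) (Char.conjFun D φ.1 e) = (m φ : ℂ) := by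
          rw [classInner_conjFun]; exact hm' φ
        rw [hθinv e] at h1
        exact Nat.cast_injective ((hm' _).symm.trans h1)
      have hAinv : ∀ (φ φ' : IrrCharacter D) (e : E),
          A (conjChar D φ e) (conjChar D φ' e) = A φ φ' := fun φ φ' e => by
        have h1 : classInner (Char.conjFun D ((fun x : D => ψ (x : E)) * φ.1) e)
            (Char.conjFun D φ'.1 e) = (A φ φ' : ℂ) := by
          rw [classInner_conjFun]; exact hA φ φ'
        rw [show Char.conjFun D ((fun x : D => ψ (x : E)) * φ.1) e =
          Char.conjFun D (fun x : D => ψ (x : E)) e * Char.conjFun D φ.1 e from rfl, hψinv e] at h1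
        exact Nat.cast_injective ((hA _ _).symm.trans h1)
      have hsum : t = ∑ q : IrrCharacter D × IrrCharacter D, m q.1 * m q.2 * A q.1 q.2 := by
        have h1 : (fun x : D => ψ (x : E)) * (fun x => θ.1 (inc x)) =
            ∑ φ : IrrCharacter D, (m φ : ℂ) • ((fun x : D => ψ (x : E)) * φ.1) := by
          rw [hm, Finset.mul_sum]
          exact Finset.sum_congr rfl fun φ _ => mul_smul_comm _ _ _
        have h2 : (t : ℂ) = ∑ q : IrrCharacter D × IrrCharacter D,
            ((m q.1 * m q.2 * A q.1 q.2 : ℕ) : ℂ) := by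
          rw [← ht, h1, classInner_sum_left, Fintype.sum_prod_type]
          refine Finset.sum_congr rfl fun φ _ => ?_
          rw [classInner_smul_left, hm, classInner_sum_right, Finset.mul_sum]
          refine Finset.sum_congr rfl fun φ' _ => ?_
          rw [classInner_smul_right, hA, Complex.conj_natCast]
          push_cast
          ring
        exact_mod_cast h2
      obtain ⟨S⟩ : Nonempty (Sylow p E) := inferInstance
      letI := irrConjAction (G := E) D
      letI : MulAction (S : Subgroup E) (IrrCharacter D) :=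
        MulAction.compHom _ (S : Subgroup E).subtype
      have hidxD : D.index ∣ p ^ k := by
        rw [← hk, ← Subgroup.relIndex_top_right N, ← htop, Subgroup.relIndex_sup_left]
        rfl
      have hSD : (S : Subgroup E) ⊔ D = ⊤ := by
        rw [← Subgroup.index_eq_one]
        have h1 : ((S : Subgroup E) ⊔ D).index ∣ (S : Subgroup E).index :=
          Subgroup.index_dvd_of_le le_sup_left
        have h2 : ((S : Subgroup E) ⊔ D).index ∣ p ^ k :=
          (Subgroup.index_dvd_of_le le_sup_right).trans hidxD
        exact Nat.eq_one_of_dvd_coprimes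
          ((hp.coprime_iff_not_dvd.2 S.not_dvd_index).pow_left k) h2 h1
      have hfix : ∀ φ : IrrCharacter D,
          (∀ s : (S : Subgroup E), s • φ = φ) → ∀ e : E, Char.conjFun D φ.1 e = φ.1 := by
        intro φ h e
        obtain ⟨s, hs, d, hd, rfl⟩ := Subgroup.mem_sup_of_normal_right.1
          (hSD.symm ▸ Subgroup.mem_top e : e ∈ (S : Subgroup E) ⊔ D)
        have hs' : Char.conjFun D φ.1 s = φ.1 := by
          have h1 : conjChar D φ (s⁻¹)⁻¹ = φ := h ⟨s⁻¹, inv_mem hs⟩
          rw [inv_inv] at h1
          exact congrArg Subtype.val h1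
        rw [Char.conjFun_mul, hs']
        exact congrArg Subtype.val (conjChar_of_mem D φ hd)
      have hcong := pCong_sum_fixedPoints (p := p) S.isPGroup'
        (fun q : IrrCharacter D × IrrCharacter D => ((m q.1 * m q.2 * A q.1 q.2 : ℕ) : ℂ))
        (fun s q => by
          show ((m (conjChar D q.1 _) * m (conjChar D q.2 _) *
            A (conjChar D q.1 _) (conjChar D q.2 _) : ℕ) : ℂ) = _
          rw [hminv, hminv, hAinv])
        (fun q => by rw [← Int.cast_natCast]; exact isIntegral_intCast _)
      rw [← Nat.cast_sum, ← Nat.cast_sum, ← hsum] at hcong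
      have h0 := dvd_sub_of_pCong (m := (t : ℤ)) (n := ((∑ q ∈ Finset.univ.filter
        (fun q : IrrCharacter D × IrrCharacter D =>
          q ∈ MulAction.fixedPoints (S : Subgroup E) (IrrCharacter D × IrrCharacter D)),
        m q.1 * m q.2 * A q.1 q.2 : ℕ) : ℤ)) (by exact_mod_cast hcong)
      refine Int.natCast_dvd_natCast.1 ((dvd_iff_dvd_of_dvd_sub h0).2
        (Int.natCast_dvd_natCast.2 (Finset.dvd_sum fun q hq => ?_)))
      refine Dvd.dvd.mul_right (Dvd.dvd.mul_right (hmfix q.1 (hfix q.1 fun s => ?_)) _) _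
      exact congrArg Prod.fst ((Finset.mem_filter.1 hq).2 s)
  obtain ⟨z, hz⟩ := key _ hmem
  rw [show (fun n : N => (fun _ : G => (c : ℂ)) n * θ.1 n) = (c : ℂ) • θ.1 from rfl,
    classInner_smul_left, classInner_irr_self θ.2, mul_one] at hz
  exact hc ⟨z, by exact_mod_cast hz⟩

end Cfsg.Agent.Clifford
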