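import Cfsg.Agent.Lib.Clifford.Extension
import Cfsg.Agent.Lib.Char.Linear

/-!
# Extensions from an eigenspace of a supplement

If `NE = G` and a linear character `μ` of `E` occurs in an invariant `θ ∈ Irr N` on `E ∩ N` with
multiplicity prime to `[G : N]`, then `θ` extends to `G`: determinants on the eigenspace and the
transfer from `N` give retractions of coprime exponents.
-/

set_option autoImplicit false
set_option linter.style.haveILetI false
set_option linter.unusedSectionVars false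

namespace Cfsg.Agent.Clifford

open Representation Module
open scoped ComplexConjugate

universe u v w

/-- Homomorphisms on a normal subgroup and a supplement glue. -/
theorem exists_hom_of_normal_sup {Γ : Type u} [Group Γ] {M : Type w} [CommGroup M]
    (A B : Subgroup Γ) [A.Normal] (hsup : A ⊔ B = ⊤) (f : A →* M) (g : B →* M)
    (hag : ∀ (a : A) (b : B), (a : Γ) = b → f a = g b)
    (hconj : ∀ (b : B) (a a' : A), (a' : Γ) = b * a * (b : Γ)⁻¹ → f a' = f a) :
    ∃ h : Γ →* M, (∀ a : A, h a = f a) ∧ ∀ b : B, h b = g b := by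
  have hdec : ∀ x : Γ, ∃ (a : A) (b : B), x = a * b := fun x => by
    obtain ⟨a, ha, b, hb, rfl⟩ := Subgroup.mem_sup_of_normal_left.1
      (hsup.symm ▸ Subgroup.mem_top x : x ∈ A ⊔ B)
    exact ⟨⟨a, ha⟩, ⟨b, hb⟩, rfl⟩
  choose α β hαβ using hdec
  have huniq : ∀ (x : Γ) (a : A) (b : B), x = a * b → f (α x) * g (β x) = f a * g b := by
    intro x a b h
    have h1 : ((a⁻¹ * α x : A) : Γ) = ((b * (β x)⁻¹ : B) : Γ) := by
      simp only [Subgroup.coe_mul, Subgroup.coe_inv]
      rw [inv_mul_eq_iff_eq_mul, ← mul_assoc, eq_mul_inv_iff_mul_eq, ← hαβ, ← h]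
    have h2 := hag _ _ h1
    simp only [map_mul, map_inv] at h2
    rw [eq_mul_inv_iff_mul_eq, mul_assoc, inv_mul_eq_iff_eq_mul] at h2
    exact h2
  refine ⟨MonoidHom.mk' (fun x => f (α x) * g (β x)) fun x y => ?_, fun a => ?_, fun b => ?_⟩
  · let a' : A := ⟨(β x : Γ) * (α y : Γ) * (β x : Γ)⁻¹,
      Subgroup.Normal.conj_mem inferInstance _ (α y).2 _⟩
    rw [huniq (x * y) (α x * a') (β x * β y) (by
      conv_lhs => rw [hαβ x, hαβ y]
      simp [a', mul_assoc])]
    rw [map_mul, map_mul, hconj (β x) (α y) a' rfl]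
    exact mul_mul_mul_comm _ _ _ _
  · show f (α (a : Γ)) * g (β (a : Γ)) = f a
    rw [huniq _ a 1 (by simp), map_one, mul_one]
  · show f (α (b : Γ)) * g (β (b : Γ)) = g b
    rw [huniq _ 1 b (by simp), map_one, one_mul]

variable {G : Type u} [Group G] [Finite G] {N : Subgroup G} [hN : N.Normal]
variable {V : Type v} [AddCommGroup V] [Module ℂ V] [FiniteDimensional ℂ V]
variable (θ : Representation ℂ N V)

/-- Retractions of coprime exponents give an extension. -/
theorem exists_extension_of_exponents [θ.IsIrreducible]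
    (hsurj : Function.Surjective (proj θ)) {a b : ℕ} (hco : Nat.Coprime a b)
    (T T' : intertwinerGroup θ →* ℂˣ)
    (hT : ∀ c, T (scalarHom θ c) = c ^ a) (hT0 : ∀ n, T (ofN θ n) = 1)
    (hT' : ∀ c, T' (scalarHom θ c) = c ^ b) (hT0' : ∀ n, T' (ofN θ n) = 1) :
    ∃ ρ : Representation ℂ G V, ∀ n : N, ρ n = θ n := by
  have hbez : (1 : ℤ) = a * Nat.gcdA a b + b * Nat.gcdB a b := by
    rw [← Nat.gcd_eq_gcd_ab, hco.gcd_eq_one, Nat.cast_one]
  refine exists_extension_of_retraction θ hsurj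
    ((zpowGroupHom (Nat.gcdA a b)).comp T * (zpowGroupHom (Nat.gcdB a b)).comp T')
    ⟨fun c => ?_, fun n => ?_⟩
  · simp only [MonoidHom.mul_apply, MonoidHom.comp_apply, zpowGroupHom_apply, hT, hT',
      ← zpow_natCast, ← zpow_mul, ← zpow_add, ← hbez, zpow_one]
  · simp only [MonoidHom.mul_apply, MonoidHom.comp_apply, zpowGroupHom_apply, hT0, hT0', one_zpow,
      mul_one]

/-- Transfer from `N` gives a retraction of exponent `[G : N]`. -/
theorem exists_retraction_index [θ.IsIrreducible] (hsurj : Function.Surjective (proj θ)) :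
    ∃ T : intertwinerGroup θ →* ℂˣ, (∀ c, T (scalarHom θ c) = c ^ N.index) ∧
      ∀ n, T (ofN θ n) = 1 := by
  set H := Subgroup.comap (proj θ) N
  obtain ⟨r, hr1, hr2⟩ : ∃ r : H →* ℂˣ,
      (∀ (x : H) c, (x : intertwinerGroup θ) = scalarHom θ c → r x = c) ∧
      ∀ (x : H) n, (x : intertwinerGroup θ) = ofN θ n → r x = 1 :=
    exists_retraction_on θ le_rfl θ fun n => rfl
  have hidx : H.index = N.index := N.index_comap_of_surjective hsurj
  haveI : H.FiniteIndex := ⟨by rw [hidx]; exact Subgroup.index_ne_zero_of_finite⟩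
  refine ⟨r.transfer, fun c => ?_, fun n => ?_⟩
  · rw [MonoidHom.transfer_eq_pow r (scalarHom θ c) (fun k g₀ _ => by
      rw [← map_pow, mul_assoc, scalarHom_comm, ← mul_assoc, inv_mul_cancel, one_mul])]
    exact (hr1 _ (c ^ H.index) (by simp)).trans (by rw [hidx])
  · haveI : Fintype (Quotient (MulAction.orbitRel (Subgroup.zpowers (ofN θ n))
      (intertwinerGroup θ ⧸ H))) := Fintype.ofFinite _
    rw [MonoidHom.transfer_eq_prod_quotient_orbitRel_zpowers_quot]
    refine Finset.prod_eq_one fun q _ => ?_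
    set y := (Quotient.out (Quotient.out q))
    obtain ⟨k, hk⟩ : ∃ k : ℕ, k = Function.minimalPeriod (fun x => ofN θ n • x)
      (Quotient.out q) := ⟨_, rfl⟩
    refine hr2 _ (MulAut.conjNormal (proj θ y⁻¹) (n ^ k)) ?_
    rw [← conj_ofN, inv_inv, map_pow, hk]

variable (E : Subgroup G) (μ : E →* ℂˣ)

/-- The common eigenspace of `E ∩ N` for `μ`. -/
def eigenSpace : Submodule ℂ V where
  carrier := {v | ∀ (x : N) (hx : (x : G) ∈ E), θ x v = ((μ ⟨x, hx⟩ : ℂˣ) : ℂ) • v}
  add_mem' {a b} ha hb x hx := by rw [map_add, ha x hx, hb x hx, smul_add]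
  zero_mem' x hx := by rw [map_zero, smul_zero]
  smul_mem' c a ha x hx := by rw [map_smul, ha x hx, smul_comm]

/-- The eigenspace has the dimension of the multiplicity. -/
theorem finrank_eigenSpace [Fintype (N.subgroupOf E)] :
    classInner (fun x : N.subgroupOf E =>
        θ.character ⟨((x : E) : G), Subgroup.mem_subgroupOf.1 x.2⟩)
      (fun x : N.subgroupOf E => ((μ (x : E) : ℂˣ) : ℂ)) =
      (finrank ℂ (eigenSpace θ E μ) : ℂ) := by
  let inc : N.subgroupOf E →* N :=
    MonoidHom.mk' (fun x => ⟨((x : E) : G), Subgroup.mem_subgroupOf.1 x.2⟩) fun _ _ => rfl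
  let lam : N.subgroupOf E →* ℂ := (Units.coeHom ℂ).comp (μ.comp (N.subgroupOf E).subtype)
  let e : Module.End ℂ V := (Nat.card (N.subgroupOf E) : ℂ)⁻¹ •
    ∑ d : N.subgroupOf E, conj (lam d) • θ (inc d)
  have hlam : ∀ d, conj (lam d) * lam d = 1 := fun d => by
    rw [mul_comm]; exact Char.normSq_linear lam d
  have hproj : LinearMap.IsProj (eigenSpace θ E μ) e := by
    refine ⟨fun v x hx => ?_, fun v hv => ?_⟩
    · show θ x (e v) = lam (⟨⟨(x : G), hx⟩, Subgroup.mem_subgroupOf.2 x.2⟩ : N.subgroupOf E) • e v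
      set d₀ : N.subgroupOf E := ⟨⟨(x : G), hx⟩, Subgroup.mem_subgroupOf.2 x.2⟩
      have hd : inc d₀ = x := rfl
      simp only [e, LinearMap.smul_apply, LinearMap.sum_apply, map_smul, map_sum]
      rw [smul_comm]
      congr 1
      rw [Finset.smul_sum]
      refine Fintype.sum_equiv (Equiv.mulLeft d₀) _ _ fun d => ?_
      rw [smul_smul, Equiv.coe_mulLeft, map_mul, map_mul, map_mul inc, hd, map_mul,
        Module.End.mul_apply, ← mul_assoc, mul_comm (lam d₀), hlam, one_mul]
    · simp only [e, LinearMap.smul_apply, LinearMap.sum_apply]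
      rw [Finset.sum_congr rfl fun d _ => show conj (lam d) • θ (inc d) v = v by
        rw [hv (inc d) (d : E).2, smul_smul]
        show (conj (lam d) * lam d) • v = v
        rw [hlam, one_smul], Finset.sum_const, Finset.card_univ, ← Nat.card_eq_fintype_card,
        ← Nat.cast_smul_eq_nsmul ℂ, smul_smul, inv_mul_cancel₀ Char.card_ne_zero, one_smul]
  have htr := hproj.trace
  simp only [e, map_smul, map_sum, smul_eq_mul] at htr
  rw [← htr, classInner]
  congr 1
  refine Finset.sum_congr rfl fun d _ => ?_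
  rw [mul_comm]
  rfl

theorem map_eigenSpace (x : intertwinerGroup θ) (hx : proj θ x ∈ E) :
    ∀ v ∈ eigenSpace θ E μ, (x.1.2 : Module.End ℂ V) v ∈ eigenSpace θ E μ := by
  intro v hv n hn
  have h1 := congrArg Units.val (x.2 (MulAut.conjNormal (proj θ x)⁻¹ n))
  have h2 : MulAut.conjNormal x.1.1 (MulAut.conjNormal (proj θ x)⁻¹ n) = n :=
    Subtype.ext (by simp [proj_apply])
  rw [h2, Units.val_mul, Units.val_mul, coe_unitsHom, coe_unitsHom] at h1
  have hmem : ((MulAut.conjNormal (proj θ x)⁻¹ n : N) : G) ∈ E := by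
    simpa using E.mul_mem (E.mul_mem (E.inv_mem hx) hn) hx
  have h3 := LinearMap.congr_fun h1 v
  rw [Module.End.mul_apply, Module.End.mul_apply, hv _ hmem, map_smul] at h3
  rw [← h3]
  congr 2
  rw [show (⟨_, hmem⟩ : E) = (⟨proj θ x, hx⟩ : E)⁻¹ * ⟨n, hn⟩ * ⟨proj θ x, hx⟩ from
    Subtype.ext (by simp), map_mul, map_mul, map_inv, mul_comm _⁻¹, inv_mul_cancel_right]

/-- A supplement with an eigenvalue of multiplicity prime to the index gives an extension. -/
theorem exists_extension_of_eigenSpace [θ.IsIrreducible]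
    (hinv : ∀ (g : G) (n : N), θ.character (MulAut.conjNormal g n) = θ.character n)
    (hNE : N ⊔ E = ⊤) (hco : Nat.Coprime (finrank ℂ (eigenSpace θ E μ)) N.index) :
    ∃ ρ : Representation ℂ G V, ∀ n : N, ρ n = θ n := by
  have hsurj := proj_surjective θ hinv
  obtain ⟨T', hT', hT0'⟩ := exists_retraction_index θ hsurj
  set W := eigenSpace θ E μ
  set B := Subgroup.comap (proj θ) E
  set A := (ofN θ).range
  haveI : A.Normal := ⟨by
    rintro _ ⟨n, rfl⟩ y
    exact ⟨_, (conj_ofN θ y n).symm⟩⟩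
  have hAB : A ⊔ B = ⊤ := by
    refine eq_top_iff.2 fun x _ => ?_
    obtain ⟨n, hn, e, he, hne⟩ := Subgroup.mem_sup_of_normal_left.1
      (hNE.symm ▸ Subgroup.mem_top (proj θ x) : proj θ x ∈ N ⊔ E)
    rw [← mul_inv_cancel_left (ofN θ ⟨n, hn⟩) x]
    refine Subgroup.mul_mem_sup ⟨_, rfl⟩ ?_
    show proj θ ((ofN θ ⟨n, hn⟩)⁻¹ * x) ∈ E
    rw [map_mul, map_inv, show proj θ (ofN θ ⟨n, hn⟩) = n from rfl, ← hne, inv_mul_cancel_left]
    exact he
  let R : B →* Module.End ℂ W :=
    { toFun := fun y => LinearMap.restrict ((y : intertwinerGroup θ).1.2 : Module.End ℂ V)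
        (map_eigenSpace θ E μ y y.2)
      map_one' := LinearMap.ext fun v => rfl
      map_mul' := fun y z => LinearMap.ext fun v => rfl }
  let pB : B →* E := MonoidHom.mk' (fun y => ⟨proj θ y, y.2⟩) fun y z => Subtype.ext (map_mul _ _ _)
  let T₀ : B →* ℂˣ := ((LinearMap.det : Module.End ℂ W →* ℂ).comp R).toHomUnits *
    ((powMonoidHom (finrank ℂ W)).comp (μ.comp pB))⁻¹
  have hT₀ : ∀ (y : B) (c : ℂˣ), R y = (c : ℂ) • (1 : Module.End ℂ W) →
      T₀ y = c ^ finrank ℂ W * (μ (pB y) ^ finrank ℂ W)⁻¹ := fun y c h => by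
    show ((LinearMap.det : Module.End ℂ W →* ℂ).comp R).toHomUnits y *
      (μ (pB y) ^ finrank ℂ W)⁻¹ = _
    congr 1
    refine Units.ext ?_
    show LinearMap.det (R y) = _
    rw [h, LinearMap.det_smul, map_one, mul_one, Units.val_pow_eq_pow_val]
  obtain ⟨T, hTA, hTB⟩ := exists_hom_of_normal_sup A B hAB 1 T₀ (fun a b hab => by
    obtain ⟨n, hn⟩ := a.2
    have hnE : (n : G) ∈ E := by
      have h1 : proj θ (b : intertwinerGroup θ) ∈ E := b.2
      rwa [← hab, ← hn] at h1
    have hb : (b : intertwinerGroup θ) = ofN θ n := hab.symm.trans hn.symm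
    rw [hT₀ b (μ ⟨n, hnE⟩) (LinearMap.ext fun v => Subtype.ext ?_)]
    · rw [show pB b = ⟨n, hnE⟩ from Subtype.ext (congrArg (proj θ) hb), mul_inv_cancel]
      rfl
    · show ((b : intertwinerGroup θ).1.2 : Module.End ℂ V) v = ((μ ⟨n, hnE⟩ : ℂˣ) : ℂ) • (v : V)
      rw [hb]
      exact v.2 n hnE) fun _ _ _ _ => rfl
  refine exists_extension_of_exponents θ hsurj hco T T' (fun c => ?_) (fun n => ?_) hT' hT0'
  · have hc : scalarHom θ c ∈ B := E.one_mem
    rw [show scalarHom θ c = ((⟨_, hc⟩ : B) : intertwinerGroup θ) from rfl, hTB,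
      hT₀ _ c (LinearMap.ext fun v => Subtype.ext (by
        show ((scalarUnit V c : (Module.End ℂ V)ˣ) : Module.End ℂ V) v = (c : ℂ) • (v : V)
        rw [coe_scalarUnit, Module.algebraMap_end_apply])),
      show pB ⟨_, hc⟩ = 1 from Subtype.ext rfl, map_one, one_pow, inv_one, mul_one]
  · exact hTA ⟨_, ⟨n, rfl⟩⟩

end Cfsg.Agent.Clifford
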